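import Mathlib

/-!
# The unipotent group of type `D₄` in characteristic two (abstract form)

Twelve root maps `X12, …, X23 : K → Γ` (for the positive roots of `D₄`, numbered as in the Chevalley
data module) satisfying the commutator relations of type `D₄` modulo two.  We compute conjugation
and squaring on the normal forms (ordered as `18, 13, 12, 14, 19, 16, 15, 21, 20, 17, 22, 23`, the
order of the classes under triality).  This file is generated.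
-/

set_option autoImplicit false
set_option maxHeartbeats 1600000
set_option linter.unusedSimpArgs false

namespace Cfsg.Agent.Helper4.D4Inv

/-- root maps with the relations of the positive unipotent subgroup of `D₄` in characteristic 2 -/
structure RelD4 (K Γ : Type*) [Field K] [Group Γ] where
  X18 : K → Γ
  X13 : K → Γ
  X12 : K → Γ
  X14 : K → Γ
  X19 : K → Γ
  X16 : K → Γ
  X15 : K → Γ
  X21 : K → Γ
  X20 : K → Γ
  X17 : K → Γ
  X22 : K → Γ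
  X23 : K → Γ
  add18 : ∀ s t, X18 (s + t) = X18 s * X18 t
  add13 : ∀ s t, X13 (s + t) = X13 s * X13 t
  add12 : ∀ s t, X12 (s + t) = X12 s * X12 t
  add14 : ∀ s t, X14 (s + t) = X14 s * X14 t
  add19 : ∀ s t, X19 (s + t) = X19 s * X19 t
  add16 : ∀ s t, X16 (s + t) = X16 s * X16 t
  add15 : ∀ s t, X15 (s + t) = X15 s * X15 t
  add21 : ∀ s t, X21 (s + t) = X21 s * X21 t
  add20 : ∀ s t, X20 (s + t) = X20 s * X20 t
  add17 : ∀ s t, X17 (s + t) = X17 s * X17 t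
  add22 : ∀ s t, X22 (s + t) = X22 s * X22 t
  add23 : ∀ s t, X23 (s + t) = X23 s * X23 t
  c18_13 : ∀ t u, X13 u * X18 t = X18 t * X13 u
  c18_12 : ∀ t u, X12 u * X18 t = X18 t * X12 u
  r18_14 : ∀ t u, X14 u * X18 t = X18 t * X14 u * X19 (t * u)
  c18_19 : ∀ t u, X19 u * X18 t = X18 t * X19 u
  r18_16 : ∀ t u, X16 u * X18 t = X18 t * X16 u * X21 (t * u)
  r18_15 : ∀ t u, X15 u * X18 t = X18 t * X15 u * X20 (t * u)
  c18_21 : ∀ t u, X21 u * X18 t = X18 t * X21 u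
  c18_20 : ∀ t u, X20 u * X18 t = X18 t * X20 u
  r18_17 : ∀ t u, X17 u * X18 t = X18 t * X17 u * X22 (t * u)
  c18_22 : ∀ t u, X22 u * X18 t = X18 t * X22 u
  c18_23 : ∀ t u, X23 u * X18 t = X18 t * X23 u
  c13_12 : ∀ t u, X12 u * X13 t = X13 t * X12 u
  r13_14 : ∀ t u, X14 u * X13 t = X13 t * X14 u * X16 (t * u)
  r13_19 : ∀ t u, X19 u * X13 t = X13 t * X19 u * X21 (t * u)
  c13_16 : ∀ t u, X16 u * X13 t = X13 t * X16 u
  r13_15 : ∀ t u, X15 u * X13 t = X13 t * X15 u * X17 (t * u)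
  c13_21 : ∀ t u, X21 u * X13 t = X13 t * X21 u
  r13_20 : ∀ t u, X20 u * X13 t = X13 t * X20 u * X22 (t * u)
  c13_17 : ∀ t u, X17 u * X13 t = X13 t * X17 u
  c13_22 : ∀ t u, X22 u * X13 t = X13 t * X22 u
  c13_23 : ∀ t u, X23 u * X13 t = X13 t * X23 u
  r12_14 : ∀ t u, X14 u * X12 t = X12 t * X14 u * X15 (t * u)
  r12_19 : ∀ t u, X19 u * X12 t = X12 t * X19 u * X20 (t * u)
  r12_16 : ∀ t u, X16 u * X12 t = X12 t * X16 u * X17 (t * u)
  c12_15 : ∀ t u, X15 u * X12 t = X12 t * X15 u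
  r12_21 : ∀ t u, X21 u * X12 t = X12 t * X21 u * X22 (t * u)
  c12_20 : ∀ t u, X20 u * X12 t = X12 t * X20 u
  c12_17 : ∀ t u, X17 u * X12 t = X12 t * X17 u
  c12_22 : ∀ t u, X22 u * X12 t = X12 t * X22 u
  c12_23 : ∀ t u, X23 u * X12 t = X12 t * X23 u
  c14_19 : ∀ t u, X19 u * X14 t = X14 t * X19 u
  c14_16 : ∀ t u, X16 u * X14 t = X14 t * X16 u
  c14_15 : ∀ t u, X15 u * X14 t = X14 t * X15 u
  c14_21 : ∀ t u, X21 u * X14 t = X14 t * X21 u
  c14_20 : ∀ t u, X20 u * X14 t = X14 t * X20 u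
  c14_17 : ∀ t u, X17 u * X14 t = X14 t * X17 u
  r14_22 : ∀ t u, X22 u * X14 t = X14 t * X22 u * X23 (t * u)
  c14_23 : ∀ t u, X23 u * X14 t = X14 t * X23 u
  c19_16 : ∀ t u, X16 u * X19 t = X19 t * X16 u
  c19_15 : ∀ t u, X15 u * X19 t = X19 t * X15 u
  c19_21 : ∀ t u, X21 u * X19 t = X19 t * X21 u
  c19_20 : ∀ t u, X20 u * X19 t = X19 t * X20 u
  r19_17 : ∀ t u, X17 u * X19 t = X19 t * X17 u * X23 (t * u)
  c19_22 : ∀ t u, X22 u * X19 t = X19 t * X22 u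
  c19_23 : ∀ t u, X23 u * X19 t = X19 t * X23 u
  c16_15 : ∀ t u, X15 u * X16 t = X16 t * X15 u
  c16_21 : ∀ t u, X21 u * X16 t = X16 t * X21 u
  r16_20 : ∀ t u, X20 u * X16 t = X16 t * X20 u * X23 (t * u)
  c16_17 : ∀ t u, X17 u * X16 t = X16 t * X17 u
  c16_22 : ∀ t u, X22 u * X16 t = X16 t * X22 u
  c16_23 : ∀ t u, X23 u * X16 t = X16 t * X23 u
  r15_21 : ∀ t u, X21 u * X15 t = X15 t * X21 u * X23 (t * u)
  c15_20 : ∀ t u, X20 u * X15 t = X15 t * X20 u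
  c15_17 : ∀ t u, X17 u * X15 t = X15 t * X17 u
  c15_22 : ∀ t u, X22 u * X15 t = X15 t * X22 u
  c15_23 : ∀ t u, X23 u * X15 t = X15 t * X23 u
  c21_20 : ∀ t u, X20 u * X21 t = X21 t * X20 u
  c21_17 : ∀ t u, X17 u * X21 t = X21 t * X17 u
  c21_22 : ∀ t u, X22 u * X21 t = X21 t * X22 u
  c21_23 : ∀ t u, X23 u * X21 t = X21 t * X23 u
  c20_17 : ∀ t u, X17 u * X20 t = X20 t * X17 u
  c20_22 : ∀ t u, X22 u * X20 t = X20 t * X22 u
  c20_23 : ∀ t u, X23 u * X20 t = X20 t * X23 u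
  c17_22 : ∀ t u, X22 u * X17 t = X17 t * X22 u
  c17_23 : ∀ t u, X23 u * X17 t = X17 t * X23 u
  c22_23 : ∀ t u, X23 u * X22 t = X22 t * X23 u

variable {K Γ : Type*} [Field K] [Group Γ] (R : RelD4 K Γ)

namespace RelD4

theorem zero18 : R.X18 0 = 1 := by
  have := R.add18 0 0
  rw [add_zero] at this
  exact (mul_eq_left.mp this.symm)

theorem zero13 : R.X13 0 = 1 := by
  have := R.add13 0 0
  rw [add_zero] at this
  exact (mul_eq_left.mp this.symm)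

theorem zero12 : R.X12 0 = 1 := by
  have := R.add12 0 0
  rw [add_zero] at this
  exact (mul_eq_left.mp this.symm)

theorem zero14 : R.X14 0 = 1 := by
  have := R.add14 0 0
  rw [add_zero] at this
  exact (mul_eq_left.mp this.symm)

theorem zero19 : R.X19 0 = 1 := by
  have := R.add19 0 0
  rw [add_zero] at this
  exact (mul_eq_left.mp this.symm)

theorem zero16 : R.X16 0 = 1 := by
  have := R.add16 0 0
  rw [add_zero] at this
  exact (mul_eq_left.mp this.symm)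

theorem zero15 : R.X15 0 = 1 := by
  have := R.add15 0 0
  rw [add_zero] at this
  exact (mul_eq_left.mp this.symm)

theorem zero21 : R.X21 0 = 1 := by
  have := R.add21 0 0
  rw [add_zero] at this
  exact (mul_eq_left.mp this.symm)

theorem zero20 : R.X20 0 = 1 := by
  have := R.add20 0 0
  rw [add_zero] at this
  exact (mul_eq_left.mp this.symm)

theorem zero17 : R.X17 0 = 1 := by
  have := R.add17 0 0
  rw [add_zero] at this
  exact (mul_eq_left.mp this.symm)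

theorem zero22 : R.X22 0 = 1 := by
  have := R.add22 0 0
  rw [add_zero] at this
  exact (mul_eq_left.mp this.symm)

theorem zero23 : R.X23 0 = 1 := by
  have := R.add23 0 0
  rw [add_zero] at this
  exact (mul_eq_left.mp this.symm)

theorem t18_13 (t u : K) (w : Γ) : R.X13 u * (R.X18 t * w) = R.X18 t * (R.X13 u * w) := by
  rw [← mul_assoc, R.c18_13, mul_assoc]

theorem t18_12 (t u : K) (w : Γ) : R.X12 u * (R.X18 t * w) = R.X18 t * (R.X12 u * w) := by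
  rw [← mul_assoc, R.c18_12, mul_assoc]

theorem t18_14 (t u : K) (w : Γ) : R.X14 u * (R.X18 t * w) = R.X18 t * (R.X14 u * (R.X19 (t * u) * w)) := by
  rw [← mul_assoc, R.r18_14]; simp only [mul_assoc]

theorem t18_19 (t u : K) (w : Γ) : R.X19 u * (R.X18 t * w) = R.X18 t * (R.X19 u * w) := by
  rw [← mul_assoc, R.c18_19, mul_assoc]

theorem t18_16 (t u : K) (w : Γ) : R.X16 u * (R.X18 t * w) = R.X18 t * (R.X16 u * (R.X21 (t * u) * w)) := by
  rw [← mul_assoc, R.r18_16]; simp only [mul_assoc]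

theorem t18_15 (t u : K) (w : Γ) : R.X15 u * (R.X18 t * w) = R.X18 t * (R.X15 u * (R.X20 (t * u) * w)) := by
  rw [← mul_assoc, R.r18_15]; simp only [mul_assoc]

theorem t18_21 (t u : K) (w : Γ) : R.X21 u * (R.X18 t * w) = R.X18 t * (R.X21 u * w) := by
  rw [← mul_assoc, R.c18_21, mul_assoc]

theorem t18_20 (t u : K) (w : Γ) : R.X20 u * (R.X18 t * w) = R.X18 t * (R.X20 u * w) := by
  rw [← mul_assoc, R.c18_20, mul_assoc]

theorem t18_17 (t u : K) (w : Γ) : R.X17 u * (R.X18 t * w) = R.X18 t * (R.X17 u * (R.X22 (t * u) * w)) := by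
  rw [← mul_assoc, R.r18_17]; simp only [mul_assoc]

theorem t18_22 (t u : K) (w : Γ) : R.X22 u * (R.X18 t * w) = R.X18 t * (R.X22 u * w) := by
  rw [← mul_assoc, R.c18_22, mul_assoc]

theorem t18_23 (t u : K) (w : Γ) : R.X23 u * (R.X18 t * w) = R.X18 t * (R.X23 u * w) := by
  rw [← mul_assoc, R.c18_23, mul_assoc]

theorem t13_12 (t u : K) (w : Γ) : R.X12 u * (R.X13 t * w) = R.X13 t * (R.X12 u * w) := by
  rw [← mul_assoc, R.c13_12, mul_assoc]

theorem t13_14 (t u : K) (w : Γ) : R.X14 u * (R.X13 t * w) = R.X13 t * (R.X14 u * (R.X16 (t * u) * w)) := by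
  rw [← mul_assoc, R.r13_14]; simp only [mul_assoc]

theorem t13_19 (t u : K) (w : Γ) : R.X19 u * (R.X13 t * w) = R.X13 t * (R.X19 u * (R.X21 (t * u) * w)) := by
  rw [← mul_assoc, R.r13_19]; simp only [mul_assoc]

theorem t13_16 (t u : K) (w : Γ) : R.X16 u * (R.X13 t * w) = R.X13 t * (R.X16 u * w) := by
  rw [← mul_assoc, R.c13_16, mul_assoc]

theorem t13_15 (t u : K) (w : Γ) : R.X15 u * (R.X13 t * w) = R.X13 t * (R.X15 u * (R.X17 (t * u) * w)) := by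
  rw [← mul_assoc, R.r13_15]; simp only [mul_assoc]

theorem t13_21 (t u : K) (w : Γ) : R.X21 u * (R.X13 t * w) = R.X13 t * (R.X21 u * w) := by
  rw [← mul_assoc, R.c13_21, mul_assoc]

theorem t13_20 (t u : K) (w : Γ) : R.X20 u * (R.X13 t * w) = R.X13 t * (R.X20 u * (R.X22 (t * u) * w)) := by
  rw [← mul_assoc, R.r13_20]; simp only [mul_assoc]

theorem t13_17 (t u : K) (w : Γ) : R.X17 u * (R.X13 t * w) = R.X13 t * (R.X17 u * w) := by
  rw [← mul_assoc, R.c13_17, mul_assoc]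

theorem t13_22 (t u : K) (w : Γ) : R.X22 u * (R.X13 t * w) = R.X13 t * (R.X22 u * w) := by
  rw [← mul_assoc, R.c13_22, mul_assoc]

theorem t13_23 (t u : K) (w : Γ) : R.X23 u * (R.X13 t * w) = R.X13 t * (R.X23 u * w) := by
  rw [← mul_assoc, R.c13_23, mul_assoc]

theorem t12_14 (t u : K) (w : Γ) : R.X14 u * (R.X12 t * w) = R.X12 t * (R.X14 u * (R.X15 (t * u) * w)) := by
  rw [← mul_assoc, R.r12_14]; simp only [mul_assoc]

theorem t12_19 (t u : K) (w : Γ) : R.X19 u * (R.X12 t * w) = R.X12 t * (R.X19 u * (R.X20 (t * u) * w)) := by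
  rw [← mul_assoc, R.r12_19]; simp only [mul_assoc]

theorem t12_16 (t u : K) (w : Γ) : R.X16 u * (R.X12 t * w) = R.X12 t * (R.X16 u * (R.X17 (t * u) * w)) := by
  rw [← mul_assoc, R.r12_16]; simp only [mul_assoc]

theorem t12_15 (t u : K) (w : Γ) : R.X15 u * (R.X12 t * w) = R.X12 t * (R.X15 u * w) := by
  rw [← mul_assoc, R.c12_15, mul_assoc]

theorem t12_21 (t u : K) (w : Γ) : R.X21 u * (R.X12 t * w) = R.X12 t * (R.X21 u * (R.X22 (t * u) * w)) := by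
  rw [← mul_assoc, R.r12_21]; simp only [mul_assoc]

theorem t12_20 (t u : K) (w : Γ) : R.X20 u * (R.X12 t * w) = R.X12 t * (R.X20 u * w) := by
  rw [← mul_assoc, R.c12_20, mul_assoc]

theorem t12_17 (t u : K) (w : Γ) : R.X17 u * (R.X12 t * w) = R.X12 t * (R.X17 u * w) := by
  rw [← mul_assoc, R.c12_17, mul_assoc]

theorem t12_22 (t u : K) (w : Γ) : R.X22 u * (R.X12 t * w) = R.X12 t * (R.X22 u * w) := by
  rw [← mul_assoc, R.c12_22, mul_assoc]

theorem t12_23 (t u : K) (w : Γ) : R.X23 u * (R.X12 t * w) = R.X12 t * (R.X23 u * w) := by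
  rw [← mul_assoc, R.c12_23, mul_assoc]

theorem t14_19 (t u : K) (w : Γ) : R.X19 u * (R.X14 t * w) = R.X14 t * (R.X19 u * w) := by
  rw [← mul_assoc, R.c14_19, mul_assoc]

theorem t14_16 (t u : K) (w : Γ) : R.X16 u * (R.X14 t * w) = R.X14 t * (R.X16 u * w) := by
  rw [← mul_assoc, R.c14_16, mul_assoc]

theorem t14_15 (t u : K) (w : Γ) : R.X15 u * (R.X14 t * w) = R.X14 t * (R.X15 u * w) := by
  rw [← mul_assoc, R.c14_15, mul_assoc]

theorem t14_21 (t u : K) (w : Γ) : R.X21 u * (R.X14 t * w) = R.X14 t * (R.X21 u * w) := by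
  rw [← mul_assoc, R.c14_21, mul_assoc]

theorem t14_20 (t u : K) (w : Γ) : R.X20 u * (R.X14 t * w) = R.X14 t * (R.X20 u * w) := by
  rw [← mul_assoc, R.c14_20, mul_assoc]

theorem t14_17 (t u : K) (w : Γ) : R.X17 u * (R.X14 t * w) = R.X14 t * (R.X17 u * w) := by
  rw [← mul_assoc, R.c14_17, mul_assoc]

theorem t14_22 (t u : K) (w : Γ) : R.X22 u * (R.X14 t * w) = R.X14 t * (R.X22 u * (R.X23 (t * u) * w)) := by
  rw [← mul_assoc, R.r14_22]; simp only [mul_assoc]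

theorem t14_23 (t u : K) (w : Γ) : R.X23 u * (R.X14 t * w) = R.X14 t * (R.X23 u * w) := by
  rw [← mul_assoc, R.c14_23, mul_assoc]

theorem t19_16 (t u : K) (w : Γ) : R.X16 u * (R.X19 t * w) = R.X19 t * (R.X16 u * w) := by
  rw [← mul_assoc, R.c19_16, mul_assoc]

theorem t19_15 (t u : K) (w : Γ) : R.X15 u * (R.X19 t * w) = R.X19 t * (R.X15 u * w) := by
  rw [← mul_assoc, R.c19_15, mul_assoc]

theorem t19_21 (t u : K) (w : Γ) : R.X21 u * (R.X19 t * w) = R.X19 t * (R.X21 u * w) := by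
  rw [← mul_assoc, R.c19_21, mul_assoc]

theorem t19_20 (t u : K) (w : Γ) : R.X20 u * (R.X19 t * w) = R.X19 t * (R.X20 u * w) := by
  rw [← mul_assoc, R.c19_20, mul_assoc]

theorem t19_17 (t u : K) (w : Γ) : R.X17 u * (R.X19 t * w) = R.X19 t * (R.X17 u * (R.X23 (t * u) * w)) := by
  rw [← mul_assoc, R.r19_17]; simp only [mul_assoc]

theorem t19_22 (t u : K) (w : Γ) : R.X22 u * (R.X19 t * w) = R.X19 t * (R.X22 u * w) := by
  rw [← mul_assoc, R.c19_22, mul_assoc]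

theorem t19_23 (t u : K) (w : Γ) : R.X23 u * (R.X19 t * w) = R.X19 t * (R.X23 u * w) := by
  rw [← mul_assoc, R.c19_23, mul_assoc]

theorem t16_15 (t u : K) (w : Γ) : R.X15 u * (R.X16 t * w) = R.X16 t * (R.X15 u * w) := by
  rw [← mul_assoc, R.c16_15, mul_assoc]

theorem t16_21 (t u : K) (w : Γ) : R.X21 u * (R.X16 t * w) = R.X16 t * (R.X21 u * w) := by
  rw [← mul_assoc, R.c16_21, mul_assoc]

theorem t16_20 (t u : K) (w : Γ) : R.X20 u * (R.X16 t * w) = R.X16 t * (R.X20 u * (R.X23 (t * u) * w)) := by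
  rw [← mul_assoc, R.r16_20]; simp only [mul_assoc]

theorem t16_17 (t u : K) (w : Γ) : R.X17 u * (R.X16 t * w) = R.X16 t * (R.X17 u * w) := by
  rw [← mul_assoc, R.c16_17, mul_assoc]

theorem t16_22 (t u : K) (w : Γ) : R.X22 u * (R.X16 t * w) = R.X16 t * (R.X22 u * w) := by
  rw [← mul_assoc, R.c16_22, mul_assoc]

theorem t16_23 (t u : K) (w : Γ) : R.X23 u * (R.X16 t * w) = R.X16 t * (R.X23 u * w) := by
  rw [← mul_assoc, R.c16_23, mul_assoc]

theorem t15_21 (t u : K) (w : Γ) : R.X21 u * (R.X15 t * w) = R.X15 t * (R.X21 u * (R.X23 (t * u) * w)) := by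
  rw [← mul_assoc, R.r15_21]; simp only [mul_assoc]

theorem t15_20 (t u : K) (w : Γ) : R.X20 u * (R.X15 t * w) = R.X15 t * (R.X20 u * w) := by
  rw [← mul_assoc, R.c15_20, mul_assoc]

theorem t15_17 (t u : K) (w : Γ) : R.X17 u * (R.X15 t * w) = R.X15 t * (R.X17 u * w) := by
  rw [← mul_assoc, R.c15_17, mul_assoc]

theorem t15_22 (t u : K) (w : Γ) : R.X22 u * (R.X15 t * w) = R.X15 t * (R.X22 u * w) := by
  rw [← mul_assoc, R.c15_22, mul_assoc]

theorem t15_23 (t u : K) (w : Γ) : R.X23 u * (R.X15 t * w) = R.X15 t * (R.X23 u * w) := by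
  rw [← mul_assoc, R.c15_23, mul_assoc]

theorem t21_20 (t u : K) (w : Γ) : R.X20 u * (R.X21 t * w) = R.X21 t * (R.X20 u * w) := by
  rw [← mul_assoc, R.c21_20, mul_assoc]

theorem t21_17 (t u : K) (w : Γ) : R.X17 u * (R.X21 t * w) = R.X21 t * (R.X17 u * w) := by
  rw [← mul_assoc, R.c21_17, mul_assoc]

theorem t21_22 (t u : K) (w : Γ) : R.X22 u * (R.X21 t * w) = R.X21 t * (R.X22 u * w) := by
  rw [← mul_assoc, R.c21_22, mul_assoc]

theorem t21_23 (t u : K) (w : Γ) : R.X23 u * (R.X21 t * w) = R.X21 t * (R.X23 u * w) := by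
  rw [← mul_assoc, R.c21_23, mul_assoc]

theorem t20_17 (t u : K) (w : Γ) : R.X17 u * (R.X20 t * w) = R.X20 t * (R.X17 u * w) := by
  rw [← mul_assoc, R.c20_17, mul_assoc]

theorem t20_22 (t u : K) (w : Γ) : R.X22 u * (R.X20 t * w) = R.X20 t * (R.X22 u * w) := by
  rw [← mul_assoc, R.c20_22, mul_assoc]

theorem t20_23 (t u : K) (w : Γ) : R.X23 u * (R.X20 t * w) = R.X20 t * (R.X23 u * w) := by
  rw [← mul_assoc, R.c20_23, mul_assoc]

theorem t17_22 (t u : K) (w : Γ) : R.X22 u * (R.X17 t * w) = R.X17 t * (R.X22 u * w) := by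
  rw [← mul_assoc, R.c17_22, mul_assoc]

theorem t17_23 (t u : K) (w : Γ) : R.X23 u * (R.X17 t * w) = R.X17 t * (R.X23 u * w) := by
  rw [← mul_assoc, R.c17_23, mul_assoc]

theorem t22_23 (t u : K) (w : Γ) : R.X23 u * (R.X22 t * w) = R.X22 t * (R.X23 u * w) := by
  rw [← mul_assoc, R.c22_23, mul_assoc]

theorem m18 (s t : K) (w : Γ) : R.X18 s * (R.X18 t * w) = R.X18 (s + t) * w := by rw [R.add18, mul_assoc]

theorem m13 (s t : K) (w : Γ) : R.X13 s * (R.X13 t * w) = R.X13 (s + t) * w := by rw [R.add13, mul_assoc]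

theorem m12 (s t : K) (w : Γ) : R.X12 s * (R.X12 t * w) = R.X12 (s + t) * w := by rw [R.add12, mul_assoc]

theorem m14 (s t : K) (w : Γ) : R.X14 s * (R.X14 t * w) = R.X14 (s + t) * w := by rw [R.add14, mul_assoc]

theorem m19 (s t : K) (w : Γ) : R.X19 s * (R.X19 t * w) = R.X19 (s + t) * w := by rw [R.add19, mul_assoc]

theorem m16 (s t : K) (w : Γ) : R.X16 s * (R.X16 t * w) = R.X16 (s + t) * w := by rw [R.add16, mul_assoc]

theorem m15 (s t : K) (w : Γ) : R.X15 s * (R.X15 t * w) = R.X15 (s + t) * w := by rw [R.add15, mul_assoc]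

theorem m21 (s t : K) (w : Γ) : R.X21 s * (R.X21 t * w) = R.X21 (s + t) * w := by rw [R.add21, mul_assoc]

theorem m20 (s t : K) (w : Γ) : R.X20 s * (R.X20 t * w) = R.X20 (s + t) * w := by rw [R.add20, mul_assoc]

theorem m17 (s t : K) (w : Γ) : R.X17 s * (R.X17 t * w) = R.X17 (s + t) * w := by rw [R.add17, mul_assoc]

theorem m22 (s t : K) (w : Γ) : R.X22 s * (R.X22 t * w) = R.X22 (s + t) * w := by rw [R.add22, mul_assoc]

theorem m23 (s t : K) (w : Γ) : R.X23 s * (R.X23 t * w) = R.X23 (s + t) * w := by rw [R.add23, mul_assoc]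

/-- the normal form -/
def NF (a0 a1 a2 b c0 c1 c2 d0 d1 d2 e z : K) : Γ :=
  R.X18 a0 * (R.X13 a1 * (R.X12 a2 * (R.X14 b * (R.X19 c0 * (R.X16 c1 * (R.X15 c2 * (R.X21 d0 * (R.X20 d2 * (R.X17 d1 * (R.X22 e * (R.X23 z)))))))))))

/-- the twisted root elements -/
def A3 (w0 w1 w2 : K) : Γ := R.X18 w0 * R.X13 w1 * R.X12 w2

def C3 (w0 w1 w2 : K) : Γ := R.X19 w0 * R.X16 w1 * R.X15 w2

def D3 (w0 w1 w2 : K) : Γ := R.X21 w0 * R.X20 w2 * R.X17 w1

section char2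

variable [CharP K 2]

theorem inv18 (w : K) : (R.X18 w)⁻¹ = R.X18 w := by
  rw [inv_eq_iff_mul_eq_one, ← R.add18, CharTwo.add_self_eq_zero, R.zero18]

theorem inv13 (w : K) : (R.X13 w)⁻¹ = R.X13 w := by
  rw [inv_eq_iff_mul_eq_one, ← R.add13, CharTwo.add_self_eq_zero, R.zero13]

theorem inv12 (w : K) : (R.X12 w)⁻¹ = R.X12 w := by
  rw [inv_eq_iff_mul_eq_one, ← R.add12, CharTwo.add_self_eq_zero, R.zero12]

theorem inv14 (w : K) : (R.X14 w)⁻¹ = R.X14 w := by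
  rw [inv_eq_iff_mul_eq_one, ← R.add14, CharTwo.add_self_eq_zero, R.zero14]

theorem inv19 (w : K) : (R.X19 w)⁻¹ = R.X19 w := by
  rw [inv_eq_iff_mul_eq_one, ← R.add19, CharTwo.add_self_eq_zero, R.zero19]

theorem inv16 (w : K) : (R.X16 w)⁻¹ = R.X16 w := by
  rw [inv_eq_iff_mul_eq_one, ← R.add16, CharTwo.add_self_eq_zero, R.zero16]

theorem inv15 (w : K) : (R.X15 w)⁻¹ = R.X15 w := by
  rw [inv_eq_iff_mul_eq_one, ← R.add15, CharTwo.add_self_eq_zero, R.zero15]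

theorem inv21 (w : K) : (R.X21 w)⁻¹ = R.X21 w := by
  rw [inv_eq_iff_mul_eq_one, ← R.add21, CharTwo.add_self_eq_zero, R.zero21]

theorem inv20 (w : K) : (R.X20 w)⁻¹ = R.X20 w := by
  rw [inv_eq_iff_mul_eq_one, ← R.add20, CharTwo.add_self_eq_zero, R.zero20]

theorem inv17 (w : K) : (R.X17 w)⁻¹ = R.X17 w := by
  rw [inv_eq_iff_mul_eq_one, ← R.add17, CharTwo.add_self_eq_zero, R.zero17]

theorem inv22 (w : K) : (R.X22 w)⁻¹ = R.X22 w := by
  rw [inv_eq_iff_mul_eq_one, ← R.add22, CharTwo.add_self_eq_zero, R.zero22]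

theorem inv23 (w : K) : (R.X23 w)⁻¹ = R.X23 w := by
  rw [inv_eq_iff_mul_eq_one, ← R.add23, CharTwo.add_self_eq_zero, R.zero23]

theorem cjA (a0 a1 a2 b c0 c1 c2 d0 d1 d2 e z w0 w1 w2 : K) :
    R.A3 w0 w1 w2 * R.NF a0 a1 a2 b c0 c1 c2 d0 d1 d2 e z * (R.A3 w0 w1 w2)⁻¹ =
      R.NF (a0) (a1) (a2) (b) (b * w0 + c0) (b * w1 + c1) (b * w2 + c2) (b * w0 * w1 + c0 * w1 + c1 * w0 + d0) (b * w1 * w2 + c1 * w2 + c2 * w1 + d1) (b * w0 * w2 + c0 * w2 + c2 * w0 + d2) (b * w0 * w1 * w2 + c0 * w1 * w2 + c1 * w0 * w2 + c2 * w0 * w1 + d0 * w2 + d1 * w0 + d2 * w1 + e) (b * c0 * w1 * w2 + b * c1 * w0 * w2 + b * c2 * w0 * w1 + b ^ 2 * w0 * w1 * w2 + c0 * c1 * w2 + c0 * c2 * w1 + c1 * c2 * w0 + z) := by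
  have h2 : (2 : K) = 0 := CharTwo.two_eq_zero
  have h4 : (4 : K) = 0 := by linear_combination 2 * h2
  have h6 : (6 : K) = 0 := by linear_combination 3 * h2
  have h8 : (8 : K) = 0 := by linear_combination 4 * h2
  unfold NF A3
  simp only [mul_inv_rev, R.inv18, R.inv13, R.inv12]
  simp only [mul_assoc, R.t18_13, R.t18_12, R.t18_14, R.t18_19, R.t18_16, R.t18_15, R.t18_21,
    R.t18_20, R.t18_17, R.t18_22, R.t18_23, R.t13_12, R.t13_14, R.t13_19, R.t13_16,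
    R.t13_15, R.t13_21, R.t13_20, R.t13_17, R.t13_22, R.t13_23, R.t12_14, R.t12_19,
    R.t12_16, R.t12_15, R.t12_21, R.t12_20, R.t12_17, R.t12_22, R.t12_23, R.t14_19,
    R.t14_16, R.t14_15, R.t14_21, R.t14_20, R.t14_17, R.t14_22, R.t14_23, R.t19_16,
    R.t19_15, R.t19_21, R.t19_20, R.t19_17, R.t19_22, R.t19_23, R.t16_15, R.t16_21,
    R.t16_20, R.t16_17, R.t16_22, R.t16_23, R.t15_21, R.t15_20, R.t15_17, R.t15_22,
    R.t15_23, R.t21_20, R.t21_17, R.t21_22, R.t21_23, R.t20_17, R.t20_22, R.t20_23,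
    R.t17_22, R.t17_23, R.t22_23, R.m18, R.m13, R.m12, R.m14, R.m19,
    R.m16, R.m15, R.m21, R.m20, R.m17, R.m22, R.m23, R.c18_13,
    R.c18_12, R.r18_14, R.c18_19, R.r18_16, R.r18_15, R.c18_21, R.c18_20, R.r18_17,
    R.c18_22, R.c18_23, R.c13_12, R.r13_14, R.r13_19, R.c13_16, R.r13_15, R.c13_21,
    R.r13_20, R.c13_17, R.c13_22, R.c13_23, R.r12_14, R.r12_19, R.r12_16, R.c12_15,
    R.r12_21, R.c12_20, R.c12_17, R.c12_22, R.c12_23, R.c14_19, R.c14_16, R.c14_15,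
    R.c14_21, R.c14_20, R.c14_17, R.r14_22, R.c14_23, R.c19_16, R.c19_15, R.c19_21,
    R.c19_20, R.r19_17, R.c19_22, R.c19_23, R.c16_15, R.c16_21, R.r16_20, R.c16_17,
    R.c16_22, R.c16_23, R.r15_21, R.c15_20, R.c15_17, R.c15_22, R.c15_23, R.c21_20,
    R.c21_17, R.c21_22, R.c21_23, R.c20_17, R.c20_22, R.c20_23, R.c17_22, R.c17_23,
    R.c22_23, ← R.add18, ← R.add13, ← R.add12, ← R.add14, ← R.add19, ← R.add16, ← R.add15,
    ← R.add21, ← R.add20, ← R.add17, ← R.add22, ← R.add23]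
  change R.NF _ _ _ _ _ _ _ _ _ _ _ _ = R.NF _ _ _ _ _ _ _ _ _ _ _ _
  congr 1 <;> first | ring1 | (rw [← sub_eq_zero]; ring_nf; simp only [h2, h4, h6, h8, mul_zero, add_zero, zero_add])

theorem cjB (a0 a1 a2 b c0 c1 c2 d0 d1 d2 e z v : K) :
    R.X14 v * R.NF a0 a1 a2 b c0 c1 c2 d0 d1 d2 e z * (R.X14 v)⁻¹ =
      R.NF (a0) (a1) (a2) (b) (a0 * v + c0) (a1 * v + c1) (a2 * v + c2) (a0 * a1 * v + d0) (a1 * a2 * v + d1) (a0 * a2 * v + d2) (a0 * a1 * a2 * v + e) (a0 * a1 * a2 * b * v + a0 * a1 * c2 * v + a0 * a2 * c1 * v + a1 * a2 * c0 * v + e * v + z) := by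
  have h2 : (2 : K) = 0 := CharTwo.two_eq_zero
  have h4 : (4 : K) = 0 := by linear_combination 2 * h2
  have h6 : (6 : K) = 0 := by linear_combination 3 * h2
  have h8 : (8 : K) = 0 := by linear_combination 4 * h2
  unfold NF 
  simp only [mul_inv_rev, R.inv14]
  simp only [mul_assoc, R.t18_13, R.t18_12, R.t18_14, R.t18_19, R.t18_16, R.t18_15, R.t18_21,
    R.t18_20, R.t18_17, R.t18_22, R.t18_23, R.t13_12, R.t13_14, R.t13_19, R.t13_16,
    R.t13_15, R.t13_21, R.t13_20, R.t13_17, R.t13_22, R.t13_23, R.t12_14, R.t12_19,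
    R.t12_16, R.t12_15, R.t12_21, R.t12_20, R.t12_17, R.t12_22, R.t12_23, R.t14_19,
    R.t14_16, R.t14_15, R.t14_21, R.t14_20, R.t14_17, R.t14_22, R.t14_23, R.t19_16,
    R.t19_15, R.t19_21, R.t19_20, R.t19_17, R.t19_22, R.t19_23, R.t16_15, R.t16_21,
    R.t16_20, R.t16_17, R.t16_22, R.t16_23, R.t15_21, R.t15_20, R.t15_17, R.t15_22,
    R.t15_23, R.t21_20, R.t21_17, R.t21_22, R.t21_23, R.t20_17, R.t20_22, R.t20_23,
    R.t17_22, R.t17_23, R.t22_23, R.m18, R.m13, R.m12, R.m14, R.m19,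
    R.m16, R.m15, R.m21, R.m20, R.m17, R.m22, R.m23, R.c18_13,
    R.c18_12, R.r18_14, R.c18_19, R.r18_16, R.r18_15, R.c18_21, R.c18_20, R.r18_17,
    R.c18_22, R.c18_23, R.c13_12, R.r13_14, R.r13_19, R.c13_16, R.r13_15, R.c13_21,
    R.r13_20, R.c13_17, R.c13_22, R.c13_23, R.r12_14, R.r12_19, R.r12_16, R.c12_15,
    R.r12_21, R.c12_20, R.c12_17, R.c12_22, R.c12_23, R.c14_19, R.c14_16, R.c14_15,
    R.c14_21, R.c14_20, R.c14_17, R.r14_22, R.c14_23, R.c19_16, R.c19_15, R.c19_21,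
    R.c19_20, R.r19_17, R.c19_22, R.c19_23, R.c16_15, R.c16_21, R.r16_20, R.c16_17,
    R.c16_22, R.c16_23, R.r15_21, R.c15_20, R.c15_17, R.c15_22, R.c15_23, R.c21_20,
    R.c21_17, R.c21_22, R.c21_23, R.c20_17, R.c20_22, R.c20_23, R.c17_22, R.c17_23,
    R.c22_23, ← R.add18, ← R.add13, ← R.add12, ← R.add14, ← R.add19, ← R.add16, ← R.add15,
    ← R.add21, ← R.add20, ← R.add17, ← R.add22, ← R.add23]
  change R.NF _ _ _ _ _ _ _ _ _ _ _ _ = R.NF _ _ _ _ _ _ _ _ _ _ _ _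
  congr 1 <;> first | ring1 | (rw [← sub_eq_zero]; ring_nf; simp only [h2, h4, h6, h8, mul_zero, add_zero, zero_add])

theorem cjC (a0 a1 a2 b c0 c1 c2 d0 d1 d2 e z w0 w1 w2 : K) :
    R.C3 w0 w1 w2 * R.NF a0 a1 a2 b c0 c1 c2 d0 d1 d2 e z * (R.C3 w0 w1 w2)⁻¹ =
      R.NF (a0) (a1) (a2) (b) (c0) (c1) (c2) (a0 * w1 + a1 * w0 + d0) (a1 * w2 + a2 * w1 + d1) (a0 * w2 + a2 * w0 + d2) (a0 * a1 * w2 + a0 * a2 * w1 + a1 * a2 * w0 + e) (a0 * a1 * b * w2 + a0 * a2 * b * w1 + a0 * c1 * w2 + a0 * c2 * w1 + a0 * w1 * w2 + a1 * a2 * b * w0 + a1 * c0 * w2 + a1 * c2 * w0 + a1 * w0 * w2 + a2 * c0 * w1 + a2 * c1 * w0 + a2 * w0 * w1 + d0 * w2 + d1 * w0 + d2 * w1 + z) := by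
  have h2 : (2 : K) = 0 := CharTwo.two_eq_zero
  have h4 : (4 : K) = 0 := by linear_combination 2 * h2
  have h6 : (6 : K) = 0 := by linear_combination 3 * h2
  have h8 : (8 : K) = 0 := by linear_combination 4 * h2
  unfold NF C3
  simp only [mul_inv_rev, R.inv19, R.inv16, R.inv15]
  simp only [mul_assoc, R.t18_13, R.t18_12, R.t18_14, R.t18_19, R.t18_16, R.t18_15, R.t18_21,
    R.t18_20, R.t18_17, R.t18_22, R.t18_23, R.t13_12, R.t13_14, R.t13_19, R.t13_16,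
    R.t13_15, R.t13_21, R.t13_20, R.t13_17, R.t13_22, R.t13_23, R.t12_14, R.t12_19,
    R.t12_16, R.t12_15, R.t12_21, R.t12_20, R.t12_17, R.t12_22, R.t12_23, R.t14_19,
    R.t14_16, R.t14_15, R.t14_21, R.t14_20, R.t14_17, R.t14_22, R.t14_23, R.t19_16,
    R.t19_15, R.t19_21, R.t19_20, R.t19_17, R.t19_22, R.t19_23, R.t16_15, R.t16_21,
    R.t16_20, R.t16_17, R.t16_22, R.t16_23, R.t15_21, R.t15_20, R.t15_17, R.t15_22,
    R.t15_23, R.t21_20, R.t21_17, R.t21_22, R.t21_23, R.t20_17, R.t20_22, R.t20_23,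
    R.t17_22, R.t17_23, R.t22_23, R.m18, R.m13, R.m12, R.m14, R.m19,
    R.m16, R.m15, R.m21, R.m20, R.m17, R.m22, R.m23, R.c18_13,
    R.c18_12, R.r18_14, R.c18_19, R.r18_16, R.r18_15, R.c18_21, R.c18_20, R.r18_17,
    R.c18_22, R.c18_23, R.c13_12, R.r13_14, R.r13_19, R.c13_16, R.r13_15, R.c13_21,
    R.r13_20, R.c13_17, R.c13_22, R.c13_23, R.r12_14, R.r12_19, R.r12_16, R.c12_15,
    R.r12_21, R.c12_20, R.c12_17, R.c12_22, R.c12_23, R.c14_19, R.c14_16, R.c14_15,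
    R.c14_21, R.c14_20, R.c14_17, R.r14_22, R.c14_23, R.c19_16, R.c19_15, R.c19_21,
    R.c19_20, R.r19_17, R.c19_22, R.c19_23, R.c16_15, R.c16_21, R.r16_20, R.c16_17,
    R.c16_22, R.c16_23, R.r15_21, R.c15_20, R.c15_17, R.c15_22, R.c15_23, R.c21_20,
    R.c21_17, R.c21_22, R.c21_23, R.c20_17, R.c20_22, R.c20_23, R.c17_22, R.c17_23,
    R.c22_23, ← R.add18, ← R.add13, ← R.add12, ← R.add14, ← R.add19, ← R.add16, ← R.add15,
    ← R.add21, ← R.add20, ← R.add17, ← R.add22, ← R.add23]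
  change R.NF _ _ _ _ _ _ _ _ _ _ _ _ = R.NF _ _ _ _ _ _ _ _ _ _ _ _
  congr 1 <;> first | ring1 | (rw [← sub_eq_zero]; ring_nf; simp only [h2, h4, h6, h8, mul_zero, add_zero, zero_add])

theorem cjD (a0 a1 a2 b c0 c1 c2 d0 d1 d2 e z w0 w1 w2 : K) :
    R.D3 w0 w1 w2 * R.NF a0 a1 a2 b c0 c1 c2 d0 d1 d2 e z * (R.D3 w0 w1 w2)⁻¹ =
      R.NF (a0) (a1) (a2) (b) (c0) (c1) (c2) (d0) (d1) (d2) (a0 * w1 + a1 * w2 + a2 * w0 + e) (a0 * b * w1 + a1 * b * w2 + a2 * b * w0 + c0 * w1 + c1 * w2 + c2 * w0 + z) := by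
  have h2 : (2 : K) = 0 := CharTwo.two_eq_zero
  have h4 : (4 : K) = 0 := by linear_combination 2 * h2
  have h6 : (6 : K) = 0 := by linear_combination 3 * h2
  have h8 : (8 : K) = 0 := by linear_combination 4 * h2
  unfold NF D3
  simp only [mul_inv_rev, R.inv21, R.inv20, R.inv17]
  simp only [mul_assoc, R.t18_13, R.t18_12, R.t18_14, R.t18_19, R.t18_16, R.t18_15, R.t18_21,
    R.t18_20, R.t18_17, R.t18_22, R.t18_23, R.t13_12, R.t13_14, R.t13_19, R.t13_16,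
    R.t13_15, R.t13_21, R.t13_20, R.t13_17, R.t13_22, R.t13_23, R.t12_14, R.t12_19,
    R.t12_16, R.t12_15, R.t12_21, R.t12_20, R.t12_17, R.t12_22, R.t12_23, R.t14_19,
    R.t14_16, R.t14_15, R.t14_21, R.t14_20, R.t14_17, R.t14_22, R.t14_23, R.t19_16,
    R.t19_15, R.t19_21, R.t19_20, R.t19_17, R.t19_22, R.t19_23, R.t16_15, R.t16_21,
    R.t16_20, R.t16_17, R.t16_22, R.t16_23, R.t15_21, R.t15_20, R.t15_17, R.t15_22,
    R.t15_23, R.t21_20, R.t21_17, R.t21_22, R.t21_23, R.t20_17, R.t20_22, R.t20_23,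
    R.t17_22, R.t17_23, R.t22_23, R.m18, R.m13, R.m12, R.m14, R.m19,
    R.m16, R.m15, R.m21, R.m20, R.m17, R.m22, R.m23, R.c18_13,
    R.c18_12, R.r18_14, R.c18_19, R.r18_16, R.r18_15, R.c18_21, R.c18_20, R.r18_17,
    R.c18_22, R.c18_23, R.c13_12, R.r13_14, R.r13_19, R.c13_16, R.r13_15, R.c13_21,
    R.r13_20, R.c13_17, R.c13_22, R.c13_23, R.r12_14, R.r12_19, R.r12_16, R.c12_15,
    R.r12_21, R.c12_20, R.c12_17, R.c12_22, R.c12_23, R.c14_19, R.c14_16, R.c14_15,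
    R.c14_21, R.c14_20, R.c14_17, R.r14_22, R.c14_23, R.c19_16, R.c19_15, R.c19_21,
    R.c19_20, R.r19_17, R.c19_22, R.c19_23, R.c16_15, R.c16_21, R.r16_20, R.c16_17,
    R.c16_22, R.c16_23, R.r15_21, R.c15_20, R.c15_17, R.c15_22, R.c15_23, R.c21_20,
    R.c21_17, R.c21_22, R.c21_23, R.c20_17, R.c20_22, R.c20_23, R.c17_22, R.c17_23,
    R.c22_23, ← R.add18, ← R.add13, ← R.add12, ← R.add14, ← R.add19, ← R.add16, ← R.add15,
    ← R.add21, ← R.add20, ← R.add17, ← R.add22, ← R.add23]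
  change R.NF _ _ _ _ _ _ _ _ _ _ _ _ = R.NF _ _ _ _ _ _ _ _ _ _ _ _
  congr 1 <;> first | ring1 | (rw [← sub_eq_zero]; ring_nf; simp only [h2, h4, h6, h8, mul_zero, add_zero, zero_add])

theorem cjE (a0 a1 a2 b c0 c1 c2 d0 d1 d2 e z v : K) :
    R.X22 v * R.NF a0 a1 a2 b c0 c1 c2 d0 d1 d2 e z * (R.X22 v)⁻¹ =
      R.NF (a0) (a1) (a2) (b) (c0) (c1) (c2) (d0) (d1) (d2) (e) (b * v + z) := by
  have h2 : (2 : K) = 0 := CharTwo.two_eq_zero
  have h4 : (4 : K) = 0 := by linear_combination 2 * h2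
  have h6 : (6 : K) = 0 := by linear_combination 3 * h2
  have h8 : (8 : K) = 0 := by linear_combination 4 * h2
  unfold NF 
  simp only [mul_inv_rev, R.inv22]
  simp only [mul_assoc, R.t18_13, R.t18_12, R.t18_14, R.t18_19, R.t18_16, R.t18_15, R.t18_21,
    R.t18_20, R.t18_17, R.t18_22, R.t18_23, R.t13_12, R.t13_14, R.t13_19, R.t13_16,
    R.t13_15, R.t13_21, R.t13_20, R.t13_17, R.t13_22, R.t13_23, R.t12_14, R.t12_19,
    R.t12_16, R.t12_15, R.t12_21, R.t12_20, R.t12_17, R.t12_22, R.t12_23, R.t14_19,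
    R.t14_16, R.t14_15, R.t14_21, R.t14_20, R.t14_17, R.t14_22, R.t14_23, R.t19_16,
    R.t19_15, R.t19_21, R.t19_20, R.t19_17, R.t19_22, R.t19_23, R.t16_15, R.t16_21,
    R.t16_20, R.t16_17, R.t16_22, R.t16_23, R.t15_21, R.t15_20, R.t15_17, R.t15_22,
    R.t15_23, R.t21_20, R.t21_17, R.t21_22, R.t21_23, R.t20_17, R.t20_22, R.t20_23,
    R.t17_22, R.t17_23, R.t22_23, R.m18, R.m13, R.m12, R.m14, R.m19,
    R.m16, R.m15, R.m21, R.m20, R.m17, R.m22, R.m23, R.c18_13,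
    R.c18_12, R.r18_14, R.c18_19, R.r18_16, R.r18_15, R.c18_21, R.c18_20, R.r18_17,
    R.c18_22, R.c18_23, R.c13_12, R.r13_14, R.r13_19, R.c13_16, R.r13_15, R.c13_21,
    R.r13_20, R.c13_17, R.c13_22, R.c13_23, R.r12_14, R.r12_19, R.r12_16, R.c12_15,
    R.r12_21, R.c12_20, R.c12_17, R.c12_22, R.c12_23, R.c14_19, R.c14_16, R.c14_15,
    R.c14_21, R.c14_20, R.c14_17, R.r14_22, R.c14_23, R.c19_16, R.c19_15, R.c19_21,
    R.c19_20, R.r19_17, R.c19_22, R.c19_23, R.c16_15, R.c16_21, R.r16_20, R.c16_17,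
    R.c16_22, R.c16_23, R.r15_21, R.c15_20, R.c15_17, R.c15_22, R.c15_23, R.c21_20,
    R.c21_17, R.c21_22, R.c21_23, R.c20_17, R.c20_22, R.c20_23, R.c17_22, R.c17_23,
    R.c22_23, ← R.add18, ← R.add13, ← R.add12, ← R.add14, ← R.add19, ← R.add16, ← R.add15,
    ← R.add21, ← R.add20, ← R.add17, ← R.add22, ← R.add23]
  change R.NF _ _ _ _ _ _ _ _ _ _ _ _ = R.NF _ _ _ _ _ _ _ _ _ _ _ _
  congr 1 <;> first | ring1 | (rw [← sub_eq_zero]; ring_nf; simp only [h2, h4, h6, h8, mul_zero, add_zero, zero_add])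

theorem sq_NF (a0 a1 a2 b c0 c1 c2 d0 d1 d2 e z : K) :
    R.NF a0 a1 a2 b c0 c1 c2 d0 d1 d2 e z * R.NF a0 a1 a2 b c0 c1 c2 d0 d1 d2 e z =
      R.NF (0) (0) (0) (0) (a0 * b) (a1 * b) (a2 * b) (a0 * a1 * b + a0 * c1 + a1 * c0) (a1 * a2 * b + a1 * c2 + a2 * c1) (a0 * a2 * b + a0 * c2 + a2 * c0) (a0 * a1 * a2 * b + a0 * a1 * c2 + a0 * a2 * c1 + a0 * d1 + a1 * a2 * c0 + a1 * d2 + a2 * d0) (a0 * a1 * b * c2 + a0 * a2 * b * c1 + a0 * b * d1 + a0 * c1 * c2 + a1 * a2 * b * c0 + a1 * b * d2 + a1 * c0 * c2 + a2 * b * d0 + a2 * c0 * c1 + b * e + c0 * d1 + c1 * d2 + c2 * d0) := by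
  have h2 : (2 : K) = 0 := CharTwo.two_eq_zero
  have h4 : (4 : K) = 0 := by linear_combination 2 * h2
  have h6 : (6 : K) = 0 := by linear_combination 3 * h2
  have h8 : (8 : K) = 0 := by linear_combination 4 * h2
  unfold NF
  simp only [mul_assoc, R.t18_13, R.t18_12, R.t18_14, R.t18_19, R.t18_16, R.t18_15, R.t18_21,
    R.t18_20, R.t18_17, R.t18_22, R.t18_23, R.t13_12, R.t13_14, R.t13_19, R.t13_16,
    R.t13_15, R.t13_21, R.t13_20, R.t13_17, R.t13_22, R.t13_23, R.t12_14, R.t12_19,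
    R.t12_16, R.t12_15, R.t12_21, R.t12_20, R.t12_17, R.t12_22, R.t12_23, R.t14_19,
    R.t14_16, R.t14_15, R.t14_21, R.t14_20, R.t14_17, R.t14_22, R.t14_23, R.t19_16,
    R.t19_15, R.t19_21, R.t19_20, R.t19_17, R.t19_22, R.t19_23, R.t16_15, R.t16_21,
    R.t16_20, R.t16_17, R.t16_22, R.t16_23, R.t15_21, R.t15_20, R.t15_17, R.t15_22,
    R.t15_23, R.t21_20, R.t21_17, R.t21_22, R.t21_23, R.t20_17, R.t20_22, R.t20_23,
    R.t17_22, R.t17_23, R.t22_23, R.m18, R.m13, R.m12, R.m14, R.m19,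
    R.m16, R.m15, R.m21, R.m20, R.m17, R.m22, R.m23, R.c18_13,
    R.c18_12, R.r18_14, R.c18_19, R.r18_16, R.r18_15, R.c18_21, R.c18_20, R.r18_17,
    R.c18_22, R.c18_23, R.c13_12, R.r13_14, R.r13_19, R.c13_16, R.r13_15, R.c13_21,
    R.r13_20, R.c13_17, R.c13_22, R.c13_23, R.r12_14, R.r12_19, R.r12_16, R.c12_15,
    R.r12_21, R.c12_20, R.c12_17, R.c12_22, R.c12_23, R.c14_19, R.c14_16, R.c14_15,
    R.c14_21, R.c14_20, R.c14_17, R.r14_22, R.c14_23, R.c19_16, R.c19_15, R.c19_21,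
    R.c19_20, R.r19_17, R.c19_22, R.c19_23, R.c16_15, R.c16_21, R.r16_20, R.c16_17,
    R.c16_22, R.c16_23, R.r15_21, R.c15_20, R.c15_17, R.c15_22, R.c15_23, R.c21_20,
    R.c21_17, R.c21_22, R.c21_23, R.c20_17, R.c20_22, R.c20_23, R.c17_22, R.c17_23,
    R.c22_23, ← R.add18, ← R.add13, ← R.add12, ← R.add14, ← R.add19, ← R.add16, ← R.add15,
    ← R.add21, ← R.add20, ← R.add17, ← R.add22, ← R.add23]
  change R.NF _ _ _ _ _ _ _ _ _ _ _ _ = R.NF _ _ _ _ _ _ _ _ _ _ _ _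
  congr 1 <;> first | ring1 | (rw [← sub_eq_zero]; ring_nf; simp only [h2, h4, h6, h8, mul_zero, add_zero, zero_add])

end char2

end RelD4

end Cfsg.Agent.Helper4.D4Inv
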