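import Cfsg.Agent.Helper19.Twist.ClassD4

/-!
Definitions for the involution classes of `³D₄(q)`, `q` even: the 12-parameter normal form of the
unipotent group `U` of `D₄(K)` in the class order of helper19 (`ClD4`), and its twisted version.
-/

set_option autoImplicit false

namespace Cfsg.Agent.Helper4.D4Inv

open Cfsg Cfsg.Lie Cfsg.Agent.Helper18

variable {K : Type*} [Field K]

theorem hD4 : chevD4 ∈ [chevG2, chevB2, chevD4, chevF4, chevE6, chevE7, chevE8] := by simp

/-- the 12-parameter normal form of `U ≤ D₄(K)`, in the order `18,13,12 | 14 | 19,16,15 | 21,20,17 | 22 | 23`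
(`= Cfsg.Agent.Helper19.Twist.ClD4.flatten`); the parameter `d1` sits at the root `17` and `d2` at `20` -/
noncomputable def NFg (a0 a1 a2 b c0 c1 c2 d0 d1 d2 e z : K) : GL chevD4.Idx K :=
  xGL chevD4 K 18 a0 * (xGL chevD4 K 13 a1 * (xGL chevD4 K 12 a2 * (xGL chevD4 K 14 b *
    (xGL chevD4 K 19 c0 * (xGL chevD4 K 16 c1 * (xGL chevD4 K 15 c2 * (xGL chevD4 K 21 d0 *
      (xGL chevD4 K 20 d2 * (xGL chevD4 K 17 d1 * (xGL chevD4 K 22 e * xGL chevD4 K 23 z))))))))))

/-- the twisted normal form: the general element of `U¹ = U ∩ ³D₄(q)` -/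
noncomputable def tnf (f : K ≃+* K) (a b c d e z : K) : GL chevD4.Idx K :=
  NFg a (f a) (f (f a)) b c (f c) (f (f c)) d (f d) (f (f d)) e z

end Cfsg.Agent.Helper4.D4Inv
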