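import Cfsg.Agent.Helper4.D4Inv.Abs
import Cfsg.Agent.Helper4.D4Inv.Defs
import Cfsg.Agent.Helper18.Core
import Cfsg.Agent.Helper18.Graded
import Cfsg.Agent.S1025

/-!
The positive root elements of `D₄(K)`, `char K = 2`, satisfy the abstract relations of
`Cfsg.Agent.Helper4.D4Inv.RelD4`.  (Generated.)
-/

set_option autoImplicit false

namespace Cfsg.Agent.Helper4.D4Inv

open Cfsg Cfsg.Lie Cfsg.Agent.Helper18

variable {K : Type*} [Field K]

/-- the commutator formula in `GL` -/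
theorem comm_GL (r s : ℕ) (hr : r < 24) (hs : s < 24) (h1 : s ≠ r) (h2 : s ≠ chevD4.neg r) (t u : K) :
    xGL chevD4 K s u * xGL chevD4 K r t =
      xGL chevD4 K r t * xGL chevD4 K s u * wordGL chevD4 K (chevD4.commWord K r s t u) := by
  have htri := triOK_of_mem chevD4 hD4
  apply Units.ext
  simp only [Units.val_mul, xGL_val chevD4 _ htri, wordGL_val chevD4 _ htri]
  exact Cfsg.Agent.S1025.result chevD4 hD4 r s hr hs h1 h2 t u

/-- the non-commuting pairs `(r, s, r + s, sign)` -/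
def ncPairs : List (ℕ × ℕ × ℕ × ℤ) :=
  [(18, 14, 19, -1), (18, 16, 21, -1), (18, 15, 20, -1), (18, 17, 22, -1), (13, 14, 16, 1), (13, 19, 21, 1), (13, 15, 17, 1), (13, 20, 22, 1), (12, 14, 15, 1), (12, 19, 20, 1), (12, 16, 17, 1), (12, 21, 22, 1), (14, 22, 23, 1), (19, 17, 23, -1), (16, 20, 23, -1), (15, 21, 23, -1)]

/-- the commuting pairs -/
def cPairs : List (ℕ × ℕ) :=
  [(18, 13), (18, 12), (18, 19), (18, 21), (18, 20), (18, 22), (18, 23), (13, 12), (13, 16), (13, 21), (13, 17), (13, 22), (13, 23), (12, 15), (12, 20), (12, 17), (12, 22), (12, 23), (14, 19), (14, 16), (14, 15), (14, 21), (14, 20), (14, 17), (14, 23), (19, 16), (19, 15), (19, 21), (19, 20), (19, 22), (19, 23), (16, 15), (16, 21), (16, 17), (16, 22), (16, 23), (15, 20), (15, 17), (15, 22), (15, 23), (21, 20), (21, 17), (21, 22), (21, 23), (20, 17), (20, 22), (20, 23), (17, 22), (17, 23), (22, 23)]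

theorem ct_nc : ∀ p ∈ ncPairs, chevD4.commTerms p.1 p.2.1 = [(p.2.2.1, p.2.2.2, 1, 1)] ∧ p.1 < 24 ∧ p.2.1 < 24 ∧
    p.2.1 ≠ p.1 ∧ p.2.1 ≠ chevD4.neg p.1 ∧ (p.2.2.2 = 1 ∨ p.2.2.2 = -1) := by decide +kernel

theorem ct_c : ∀ p ∈ cPairs, chevD4.commTerms p.1 p.2 = [] ∧ p.1 < 24 ∧ p.2 < 24 ∧ p.2 ≠ p.1 ∧
    p.2 ≠ chevD4.neg p.1 := by decide +kernel

theorem xg_add (r : ℕ) (s t : K) : xGL chevD4 K r (s + t) = xGL chevD4 K r s * xGL chevD4 K r t :=
  (xGL_mul_add chevD4 hD4 r s t).symm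

section char2

variable [CharP K 2]

theorem rel_nc (r s m : ℕ) (ε : ℤ) (h : (r, s, m, ε) ∈ ncPairs) (t u : K) :
    xGL chevD4 K s u * xGL chevD4 K r t = xGL chevD4 K r t * xGL chevD4 K s u * xGL chevD4 K m (t * u) := by
  obtain ⟨hct, hr, hs, h1, h2, hε⟩ := ct_nc _ h
  rw [comm_GL r s hr hs h1 h2 t u]
  unfold ChevalleyDatum.commWord
  simp only at hct
  rw [hct]
  have e : ((ε : ℤ) : K) * (-t) ^ 1 * u ^ 1 = t * u := by
    rcases hε with h | h
    · simp only at h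
      rw [h]; simp [CharTwo.neg_eq]
    · simp only at h
      rw [h]; simp [CharTwo.neg_eq]
  simp only [wordGL, List.map_cons, List.map_nil, List.prod_cons, List.prod_nil, mul_one, e]

theorem rel_c (r s : ℕ) (h : (r, s) ∈ cPairs) (t u : K) :
    xGL chevD4 K s u * xGL chevD4 K r t = xGL chevD4 K r t * xGL chevD4 K s u := by
  obtain ⟨hct, hr, hs, h1, h2⟩ := ct_c _ h
  rw [comm_GL r s hr hs h1 h2 t u]
  unfold ChevalleyDatum.commWord
  simp only at hct
  rw [hct]
  simp [wordGL]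

/-- the abstract relations hold in `D₄(K)` -/
noncomputable def d4Rel : RelD4 K (GL chevD4.Idx K) where
  X18 := xGL chevD4 K 18
  X13 := xGL chevD4 K 13
  X12 := xGL chevD4 K 12
  X14 := xGL chevD4 K 14
  X19 := xGL chevD4 K 19
  X16 := xGL chevD4 K 16
  X15 := xGL chevD4 K 15
  X21 := xGL chevD4 K 21
  X20 := xGL chevD4 K 20
  X17 := xGL chevD4 K 17
  X22 := xGL chevD4 K 22
  X23 := xGL chevD4 K 23
  add18 := xg_add 18
  add13 := xg_add 13
  add12 := xg_add 12
  add14 := xg_add 14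
  add19 := xg_add 19
  add16 := xg_add 16
  add15 := xg_add 15
  add21 := xg_add 21
  add20 := xg_add 20
  add17 := xg_add 17
  add22 := xg_add 22
  add23 := xg_add 23
  r18_14 := rel_nc 18 14 19 (-1) (by decide)
  r18_16 := rel_nc 18 16 21 (-1) (by decide)
  r18_15 := rel_nc 18 15 20 (-1) (by decide)
  r18_17 := rel_nc 18 17 22 (-1) (by decide)
  r13_14 := rel_nc 13 14 16 (1) (by decide)
  r13_19 := rel_nc 13 19 21 (1) (by decide)
  r13_15 := rel_nc 13 15 17 (1) (by decide)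
  r13_20 := rel_nc 13 20 22 (1) (by decide)
  r12_14 := rel_nc 12 14 15 (1) (by decide)
  r12_19 := rel_nc 12 19 20 (1) (by decide)
  r12_16 := rel_nc 12 16 17 (1) (by decide)
  r12_21 := rel_nc 12 21 22 (1) (by decide)
  r14_22 := rel_nc 14 22 23 (1) (by decide)
  r19_17 := rel_nc 19 17 23 (-1) (by decide)
  r16_20 := rel_nc 16 20 23 (-1) (by decide)
  r15_21 := rel_nc 15 21 23 (-1) (by decide)
  c18_13 := rel_c 18 13 (by decide)
  c18_12 := rel_c 18 12 (by decide)
  c18_19 := rel_c 18 19 (by decide)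
  c18_21 := rel_c 18 21 (by decide)
  c18_20 := rel_c 18 20 (by decide)
  c18_22 := rel_c 18 22 (by decide)
  c18_23 := rel_c 18 23 (by decide)
  c13_12 := rel_c 13 12 (by decide)
  c13_16 := rel_c 13 16 (by decide)
  c13_21 := rel_c 13 21 (by decide)
  c13_17 := rel_c 13 17 (by decide)
  c13_22 := rel_c 13 22 (by decide)
  c13_23 := rel_c 13 23 (by decide)
  c12_15 := rel_c 12 15 (by decide)
  c12_20 := rel_c 12 20 (by decide)
  c12_17 := rel_c 12 17 (by decide)
  c12_22 := rel_c 12 22 (by decide)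
  c12_23 := rel_c 12 23 (by decide)
  c14_19 := rel_c 14 19 (by decide)
  c14_16 := rel_c 14 16 (by decide)
  c14_15 := rel_c 14 15 (by decide)
  c14_21 := rel_c 14 21 (by decide)
  c14_20 := rel_c 14 20 (by decide)
  c14_17 := rel_c 14 17 (by decide)
  c14_23 := rel_c 14 23 (by decide)
  c19_16 := rel_c 19 16 (by decide)
  c19_15 := rel_c 19 15 (by decide)
  c19_21 := rel_c 19 21 (by decide)
  c19_20 := rel_c 19 20 (by decide)
  c19_22 := rel_c 19 22 (by decide)
  c19_23 := rel_c 19 23 (by decide)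
  c16_15 := rel_c 16 15 (by decide)
  c16_21 := rel_c 16 21 (by decide)
  c16_17 := rel_c 16 17 (by decide)
  c16_22 := rel_c 16 22 (by decide)
  c16_23 := rel_c 16 23 (by decide)
  c15_20 := rel_c 15 20 (by decide)
  c15_17 := rel_c 15 17 (by decide)
  c15_22 := rel_c 15 22 (by decide)
  c15_23 := rel_c 15 23 (by decide)
  c21_20 := rel_c 21 20 (by decide)
  c21_17 := rel_c 21 17 (by decide)
  c21_22 := rel_c 21 22 (by decide)
  c21_23 := rel_c 21 23 (by decide)
  c20_17 := rel_c 20 17 (by decide)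
  c20_22 := rel_c 20 22 (by decide)
  c20_23 := rel_c 20 23 (by decide)
  c17_22 := rel_c 17 22 (by decide)
  c17_23 := rel_c 17 23 (by decide)
  c22_23 := rel_c 22 23 (by decide)

theorem d4Rel_NF (a0 a1 a2 b c0 c1 c2 d0 d1 d2 e z : K) :
    (d4Rel (K := K)).NF a0 a1 a2 b c0 c1 c2 d0 d1 d2 e z = NFg a0 a1 a2 b c0 c1 c2 d0 d1 d2 e z := rfl

end char2

end Cfsg.Agent.Helper4.D4Inv
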