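import Cfsg.Agent.Helper4.D4Inv.Abs

/-!
# Involutions of the twisted unipotent group of type `³D₄` in characteristic two (abstract form)
-/

set_option autoImplicit false
set_option linter.unusedSectionVars false

namespace Cfsg.Agent.Helper4.D4Inv

variable {K Γ : Type*} [Field K] [Group Γ]

/-- conjugacy under a subgroup -/
def ConjIn (H : Subgroup Γ) (x y : Γ) : Prop := ∃ g ∈ H, g * x * g⁻¹ = y

theorem ConjIn.refl (H : Subgroup Γ) (x : Γ) : ConjIn H x x := ⟨1, H.one_mem, by simp⟩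

theorem ConjIn.trans {H : Subgroup Γ} {x y z : Γ} (h1 : ConjIn H x y) (h2 : ConjIn H y z) : ConjIn H x z := by
  obtain ⟨g, hg, rfl⟩ := h1
  obtain ⟨k, hk, rfl⟩ := h2
  exact ⟨k * g, H.mul_mem hk hg, by group⟩

theorem ConjIn.symm {H : Subgroup Γ} {x y : Γ} (h1 : ConjIn H x y) : ConjIn H y x := by
  obtain ⟨g, hg, rfl⟩ := h1
  exact ⟨g⁻¹, H.inv_mem hg, by group⟩

theorem ConjIn.of_eq {H : Subgroup Γ} {x y : Γ} (h : x = y) : ConjIn H x y := h ▸ ConjIn.refl H x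

/-- the twisted data: a field automorphism of order three, the twisted group, Weyl and torus elements -/
structure Tw (R : RelD4 K Γ) where
  σ : K ≃+* K
  G1 : Subgroup Γ
  σ3 : ∀ x, σ (σ (σ x)) = x
  memA : ∀ w, R.A3 w (σ w) (σ (σ w)) ∈ G1
  memB : ∀ v, σ v = v → R.X14 v ∈ G1
  memC : ∀ w, R.C3 w (σ w) (σ (σ w)) ∈ G1
  memD : ∀ w, R.D3 w (σ w) (σ (σ w)) ∈ G1
  memE : ∀ v, σ v = v → R.X22 v ∈ G1
  sqK : ∀ c : K, ∃ s : K, s ^ 2 = c
  inj : ∀ a0 a1 a2 b c0 c1 c2 d0 d1 d2 e z : K, R.NF a0 a1 a2 b c0 c1 c2 d0 d1 d2 e z = 1 →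
    a0 = 0 ∧ a1 = 0 ∧ a2 = 0 ∧ b = 0 ∧ c0 = 0 ∧ c1 = 0 ∧ c2 = 0 ∧ d0 = 0 ∧ d1 = 0 ∧ d2 = 0 ∧ e = 0 ∧ z = 0
  nA : ∃ n ∈ G1, ∀ t : K, n * R.X14 t * n⁻¹ = R.X22 t ∧ n * R.X19 t * n⁻¹ = R.X17 t ∧
    n * R.X16 t * n⁻¹ = R.X20 t ∧ n * R.X15 t * n⁻¹ = R.X21 t ∧ n * R.X21 t * n⁻¹ = R.X15 t ∧
    n * R.X20 t * n⁻¹ = R.X16 t ∧ n * R.X17 t * n⁻¹ = R.X19 t ∧ n * R.X23 t * n⁻¹ = R.X23 t
  nB : ∃ n ∈ G1, ∀ t : K, n * R.X18 t * n⁻¹ = R.X19 t ∧ n * R.X13 t * n⁻¹ = R.X16 t ∧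
    n * R.X12 t * n⁻¹ = R.X15 t ∧ n * R.X22 t * n⁻¹ = R.X23 t
  hZ : ∀ c : K, c ≠ 0 → σ c = c → ∃ h ∈ G1, ∀ t : K, h * R.X23 t * h⁻¹ = R.X23 (c * t)
  hA : ∀ c : K, c ≠ 0 → ∃ h ∈ G1, ∀ t : K, h * R.X18 t * h⁻¹ = R.X18 (c ^ 2 * t) ∧
    h * R.X13 t * h⁻¹ = R.X13 ((σ c) ^ 2 * t) ∧ h * R.X12 t * h⁻¹ = R.X12 ((σ (σ c)) ^ 2 * t)

variable {R : RelD4 K Γ} (T : Tw R)

namespace Tw

/-- the trace -/
def Tr (x : K) : K := x + T.σ x + T.σ (T.σ x)

/-- the norm -/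
def Nm (x : K) : K := x * T.σ x * T.σ (T.σ x)

/-- the twisted normal form -/
def tnf (a b c d e z : K) : Γ :=
  R.NF a (T.σ a) (T.σ (T.σ a)) b c (T.σ c) (T.σ (T.σ c)) d (T.σ d) (T.σ (T.σ d)) e z

/-- the twisted root elements -/
def gA (w : K) : Γ := R.A3 w (T.σ w) (T.σ (T.σ w))
def gC (w : K) : Γ := R.C3 w (T.σ w) (T.σ (T.σ w))
def gD (w : K) : Γ := R.D3 w (T.σ w) (T.σ (T.σ w))

theorem σ_Tr (x : K) : T.σ (T.Tr x) = T.Tr x := by
  unfold Tr
  simp only [map_add, T.σ3]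
  ring

theorem σ_Nm (x : K) : T.σ (T.Nm x) = T.Nm x := by
  unfold Nm
  simp only [map_mul, T.σ3]
  ring

theorem Tr_σ (x : K) : T.Tr (T.σ x) = T.Tr x := by
  unfold Tr
  simp only [T.σ3]
  ring

theorem Tr_mul_fix (x y : K) (hx : T.σ x = x) : T.Tr (x * y) = x * T.Tr y := by
  unfold Tr
  simp only [map_mul, hx]
  ring

section char2

variable [CharP K 2]

theorem Tr_fix (x : K) (hx : T.σ x = x) : T.Tr x = x := by
  unfold Tr
  rw [hx, hx]
  have h2 : (2 : K) = 0 := CharTwo.two_eq_zero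
  linear_combination x * h2

theorem sq_inj (x y : K) (h : x ^ 2 = y ^ 2) : x = y := by
  have h2 : (2 : K) = 0 := CharTwo.two_eq_zero
  have : (x + y) ^ 2 = 0 := by linear_combination h + (x * y + y ^ 2) * h2
  have h3 : x + y = 0 := pow_eq_zero_iff (two_ne_zero) |>.mp this
  linear_combination h3 - y * h2

/-- square roots of fixed elements are fixed -/
theorem exists_sqrt_fix (c : K) (hc : T.σ c = c) : ∃ s : K, s ^ 2 = c ∧ T.σ s = s := by
  obtain ⟨s, hs⟩ := T.sqK c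
  refine ⟨s, hs, ?_⟩
  apply sq_inj
  rw [← map_pow, hs, hc]

/-- additive Hilbert 90 in characteristic two and degree three -/
theorem h90 (x : K) (hx : T.Tr x = 0) : T.σ x + T.σ (T.σ x) = x := by
  unfold Tr at hx
  have h2 : (2 : K) = 0 := CharTwo.two_eq_zero
  linear_combination hx - x * h2

/-- conjugation of a twisted normal form by `A(w)` -/
theorem tcjA (a b c d e z w : K) (hb : T.σ b = b) :
    T.gA w * T.tnf a b c d e z * (T.gA w)⁻¹ =
      T.tnf a b (c + b * w) (d + b * (w * T.σ w) + (c * T.σ w + T.σ c * w))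
        (e + b * T.Nm w + T.Tr (c * (T.σ w * T.σ (T.σ w))) + T.Tr (d * T.σ (T.σ w)))
        (z + b * T.Tr (c * (T.σ w * T.σ (T.σ w))) + b ^ 2 * T.Nm w + T.Tr (c * T.σ c * T.σ (T.σ w))) := by
  unfold gA tnf
  rw [R.cjA]
  unfold Tr Nm
  simp only [map_add, map_mul, T.σ3, hb]
  congr 1 <;> ring

/-- conjugation of a twisted normal form by `B(v)`, `v` fixed -/
theorem tcjB (a b c d e z v : K) (hv : T.σ v = v) :
    R.X14 v * T.tnf a b c d e z * (R.X14 v)⁻¹ =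
      T.tnf a b (c + a * v) (d + a * T.σ a * v) (e + T.Nm a * v)
        (z + T.Nm a * b * v + v * T.Tr (a * T.σ a * T.σ (T.σ c)) + e * v) := by
  unfold tnf
  rw [R.cjB]
  unfold Tr Nm
  simp only [map_add, map_mul, T.σ3, hv]
  congr 1 <;> ring

/-- conjugation of a twisted normal form by `C(w)` -/
theorem tcjC (a b c d e z w : K) :
    T.gC w * T.tnf a b c d e z * (T.gC w)⁻¹ =
      T.tnf a b c (d + (a * T.σ w + T.σ a * w)) (e + T.Tr (a * T.σ a * T.σ (T.σ w)))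
        (z + b * T.Tr (a * T.σ a * T.σ (T.σ w)) + T.Tr (a * T.σ c * T.σ (T.σ w)) +
          T.Tr (a * T.σ (T.σ c) * T.σ w) + T.Tr (a * (T.σ w * T.σ (T.σ w))) + T.Tr (d * T.σ (T.σ w))) := by
  unfold gC tnf
  rw [R.cjC]
  unfold Tr
  simp only [map_add, map_mul, T.σ3]
  congr 1 <;> ring

/-- conjugation of a twisted normal form by `D(w)` -/
theorem tcjD (a b c d e z w : K) :
    T.gD w * T.tnf a b c d e z * (T.gD w)⁻¹ =
      T.tnf a b c d (e + T.Tr (a * T.σ w)) (z + b * T.Tr (a * T.σ w) + T.Tr (c * T.σ w)) := by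
  unfold gD tnf
  rw [R.cjD]
  unfold Tr
  simp only [map_mul, T.σ3]
  congr 1 <;> ring

/-- conjugation of a twisted normal form by `E(v)` -/
theorem tcjE (a b c d e z v : K) :
    R.X22 v * T.tnf a b c d e z * (R.X22 v)⁻¹ = T.tnf a b c d e (z + b * v) := by
  unfold tnf
  rw [R.cjE]
  congr 1
  ring

/-- the conditions for a twisted normal form to be an involution -/
theorem cond_of_sq (a b c d e z : K) (hu : T.tnf a b c d e z * T.tnf a b c d e z = 1) :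
    a * b = 0 ∧ a * T.σ a * b + a * T.σ c + T.σ a * c = 0 ∧
      T.Nm a * b + T.Tr (a * T.σ a * T.σ (T.σ c)) + T.Tr (a * T.σ d) = 0 ∧
      b * T.Tr (a * T.σ a * T.σ (T.σ c)) + b * T.Tr (a * T.σ d) + T.Tr (a * T.σ c * T.σ (T.σ c)) + b * e +
        T.Tr (c * T.σ d) = 0 := by
  unfold tnf at hu
  rw [R.sq_NF] at hu
  obtain ⟨-, -, -, -, h1, -, -, h2, -, -, h3, h4⟩ := T.inj _ _ _ _ _ _ _ _ _ _ _ _ hu
  refine ⟨h1, ?_, ?_, ?_⟩
  · linear_combination h2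
  · unfold Tr Nm; simp only [map_mul, T.σ3]; linear_combination h3
  · unfold Tr; simp only [map_mul, T.σ3]; linear_combination h4

theorem tnf_Z (z : K) : T.tnf 0 0 0 0 0 z = R.X23 z := by
  unfold tnf RelD4.NF
  simp only [map_zero, R.zero18, R.zero13, R.zero12, R.zero14, R.zero19, R.zero16, R.zero15, R.zero21,
    R.zero20, R.zero17, R.zero22, one_mul]

theorem tnf_E (e : K) : T.tnf 0 0 0 0 e 0 = R.X22 e := by
  unfold tnf RelD4.NF
  simp only [map_zero, R.zero18, R.zero13, R.zero12, R.zero14, R.zero19, R.zero16, R.zero15, R.zero21,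
    R.zero20, R.zero17, R.zero23, one_mul, mul_one]

theorem tnf_B (b : K) : T.tnf 0 b 0 0 0 0 = R.X14 b := by
  unfold tnf RelD4.NF
  simp only [map_zero, R.zero18, R.zero13, R.zero12, R.zero19, R.zero16, R.zero15, R.zero21,
    R.zero20, R.zero17, R.zero22, R.zero23, one_mul, mul_one]

theorem tnf_A (a : K) : T.tnf a 0 0 0 0 0 = T.gA a := by
  unfold tnf RelD4.NF gA RelD4.A3
  simp only [map_zero, R.zero14, R.zero19, R.zero16, R.zero15, R.zero21,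
    R.zero20, R.zero17, R.zero22, R.zero23, mul_one, mul_assoc]

theorem tnf_C (c : K) : T.tnf 0 0 c 0 0 0 = T.gC c := by
  unfold tnf RelD4.NF gC RelD4.C3
  simp only [map_zero, R.zero18, R.zero13, R.zero12, R.zero14, R.zero21,
    R.zero20, R.zero17, R.zero22, R.zero23, one_mul, mul_one, mul_assoc]

theorem tnf_D (d : K) : T.tnf 0 0 0 d 0 0 = T.gD d := by
  unfold tnf RelD4.NF gD RelD4.D3
  simp only [map_zero, R.zero18, R.zero13, R.zero12, R.zero14, R.zero19, R.zero16, R.zero15,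
    R.zero22, R.zero23, one_mul, mul_one, mul_assoc]

theorem tnf_BDZ (b d z : K) : T.tnf 0 b 0 d 0 z = R.X14 b * T.gD d * R.X23 z := by
  unfold tnf RelD4.NF gD RelD4.D3
  simp only [map_zero, R.zero18, R.zero13, R.zero12, R.zero19, R.zero16, R.zero15,
    R.zero22, one_mul, mul_assoc]

theorem tnf_CEZ (c e z : K) : T.tnf 0 0 c 0 e z = T.gC c * R.X22 e * R.X23 z := by
  unfold tnf RelD4.NF gC RelD4.C3
  simp only [map_zero, R.zero18, R.zero13, R.zero12, R.zero14, R.zero21, R.zero20, R.zero17,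
    one_mul, mul_assoc]

theorem conjZ {z : K} (hz0 : z ≠ 0) (hz : T.σ z = z) : ConjIn T.G1 (R.X23 z) (R.X23 1) := by
  obtain ⟨h, hh, hc⟩ := T.hZ z⁻¹ (inv_ne_zero hz0) (by rw [map_inv₀, hz])
  exact ⟨h, hh, by rw [hc, inv_mul_cancel₀ hz0]⟩

theorem conjE {e : K} (he0 : e ≠ 0) (he : T.σ e = e) : ConjIn T.G1 (R.X22 e) (R.X23 1) := by
  obtain ⟨n, hn, hc⟩ := T.nB
  exact ConjIn.trans ⟨n, hn, (hc e).2.2.2⟩ (T.conjZ he0 he)

theorem conjB {b : K} (hb0 : b ≠ 0) (hb : T.σ b = b) : ConjIn T.G1 (R.X14 b) (R.X23 1) := by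
  obtain ⟨n, hn, hc⟩ := T.nA
  exact ConjIn.trans ⟨n, hn, (hc b).1⟩ (T.conjE hb0 hb)

theorem conj3 (n x y z : Γ) : n * (x * y * z) * n⁻¹ = (n * x * n⁻¹) * (n * y * n⁻¹) * (n * z * n⁻¹) := by
  group

theorem conjA {a : K} (ha0 : a ≠ 0) : ConjIn T.G1 (T.gA a) (T.gA 1) := by
  obtain ⟨c, hc⟩ := T.sqK a⁻¹
  have hc0 : c ≠ 0 := by
    rintro rfl
    rw [zero_pow two_ne_zero] at hc
    exact inv_ne_zero ha0 hc.symm
  obtain ⟨h, hh, hconj⟩ := T.hA c hc0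
  refine ⟨h, hh, ?_⟩
  unfold gA RelD4.A3
  rw [conj3, (hconj _).1, (hconj _).2.1, (hconj _).2.2]
  have e1 : c ^ 2 * a = 1 := by rw [hc, inv_mul_cancel₀ ha0]
  have e2 : T.σ c ^ 2 * T.σ a = T.σ 1 := by rw [← map_pow, ← map_mul, e1]
  have e3 : T.σ (T.σ c) ^ 2 * T.σ (T.σ a) = T.σ (T.σ 1) := by rw [← map_pow, ← map_mul, ← map_pow, ← map_mul, e1]
  rw [e1, e2, e3]

theorem conjC (c : K) : ConjIn T.G1 (T.gC c) (T.gA c) := by
  obtain ⟨n, hn, hc⟩ := T.nB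
  apply ConjIn.symm
  refine ⟨n, hn, ?_⟩
  unfold gA RelD4.A3 gC RelD4.C3
  rw [conj3, (hc _).1, (hc _).2.1, (hc _).2.2.1]

theorem conjD (d : K) : ConjIn T.G1 (T.gD d) (T.gC (T.σ d)) := by
  obtain ⟨n, hn, hc⟩ := T.nA
  refine ⟨n, hn, ?_⟩
  unfold gD RelD4.D3 gC RelD4.C3
  rw [conj3, (hc _).2.2.2.2.1, (hc _).2.2.2.2.2.1, (hc _).2.2.2.2.2.2.1, T.σ3]
  -- `X15 d * X16 (σσd) * X19 (σd) = X19 (σd) * X16 (σσd) * X15 d`
  rw [R.c16_15, mul_assoc, R.c19_15, ← mul_assoc, R.c19_16, mul_assoc]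

/-- conjugation by the Weyl element `n_A` -/
theorem cj_nA (b d z : K) : ConjIn T.G1 (T.tnf 0 b 0 d 0 z) (T.tnf 0 0 (T.σ d) 0 b z) := by
  obtain ⟨n, hn, hc⟩ := T.nA
  obtain ⟨m, hm, hcm⟩ := T.conjD d
  refine ⟨n, hn, ?_⟩
  rw [tnf_BDZ, tnf_CEZ, conj3, (hc _).1, (hc _).2.2.2.2.2.2.2]
  have e : n * T.gD d * n⁻¹ = T.gC (T.σ d) := by
    unfold gD RelD4.D3 gC RelD4.C3
    rw [conj3, (hc _).2.2.2.2.1, (hc _).2.2.2.2.2.1, (hc _).2.2.2.2.2.2.1, T.σ3]
    rw [R.c16_15, mul_assoc, R.c19_15, ← mul_assoc, R.c19_16, mul_assoc]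
  rw [e]
  -- `X22 b * gC = gC * X22 b`
  unfold gC RelD4.C3
  simp only [mul_assoc]
  rw [← mul_assoc (R.X22 b), R.c19_22, mul_assoc, ← mul_assoc (R.X22 b), R.c16_22, mul_assoc,
    ← mul_assoc (R.X22 b), R.c15_22, mul_assoc]

theorem Tr_zero : T.Tr 0 = 0 := by unfold Tr; simp

theorem Nm_zero : T.Nm 0 = 0 := by unfold Nm; simp

theorem stepA (a b c d e z w : K) (hb : T.σ b = b) {c' d' e' z' : K} (hc : c' = c + b * w)
    (hd : d' = d + b * (w * T.σ w) + (c * T.σ w + T.σ c * w))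
    (he : e' = e + b * T.Nm w + T.Tr (c * (T.σ w * T.σ (T.σ w))) + T.Tr (d * T.σ (T.σ w)))
    (hz : z' = z + b * T.Tr (c * (T.σ w * T.σ (T.σ w))) + b ^ 2 * T.Nm w + T.Tr (c * T.σ c * T.σ (T.σ w))) :
    ConjIn T.G1 (T.tnf a b c d e z) (T.tnf a b c' d' e' z') :=
  ⟨T.gA w, T.memA w, by rw [T.tcjA _ _ _ _ _ _ _ hb, hc, hd, he, hz]⟩

theorem stepB (a b c d e z v : K) (hv : T.σ v = v) {c' d' e' z' : K} (hc : c' = c + a * v)
    (hd : d' = d + a * T.σ a * v) (he : e' = e + T.Nm a * v)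
    (hz : z' = z + T.Nm a * b * v + v * T.Tr (a * T.σ a * T.σ (T.σ c)) + e * v) :
    ConjIn T.G1 (T.tnf a b c d e z) (T.tnf a b c' d' e' z') :=
  ⟨R.X14 v, T.memB v hv, by rw [T.tcjB _ _ _ _ _ _ _ hv, hc, hd, he, hz]⟩

theorem stepC (a b c d e z w : K) {d' e' z' : K} (hd : d' = d + (a * T.σ w + T.σ a * w))
    (he : e' = e + T.Tr (a * T.σ a * T.σ (T.σ w)))
    (hz : z' = z + b * T.Tr (a * T.σ a * T.σ (T.σ w)) + T.Tr (a * T.σ c * T.σ (T.σ w)) +
          T.Tr (a * T.σ (T.σ c) * T.σ w) + T.Tr (a * (T.σ w * T.σ (T.σ w))) + T.Tr (d * T.σ (T.σ w))) :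
    ConjIn T.G1 (T.tnf a b c d e z) (T.tnf a b c d' e' z') :=
  ⟨T.gC w, T.memC w, by rw [T.tcjC, hd, he, hz]⟩

theorem stepD (a b c d e z w : K) {e' z' : K} (he : e' = e + T.Tr (a * T.σ w))
    (hz : z' = z + b * T.Tr (a * T.σ w) + T.Tr (c * T.σ w)) :
    ConjIn T.G1 (T.tnf a b c d e z) (T.tnf a b c d e' z') :=
  ⟨T.gD w, T.memD w, by rw [T.tcjD, he, hz]⟩

theorem stepE (a b c d e z v : K) (hv : T.σ v = v) {z' : K} (hz : z' = z + b * v) :
    ConjIn T.G1 (T.tnf a b c d e z) (T.tnf a b c d e z') :=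
  ⟨R.X22 v, T.memE v hv, by rw [T.tcjE, hz]⟩

theorem sq_of_conjIn {H : Subgroup Γ} {x y : Γ} (h : ConjIn H x y) (hx : x * x = 1) : y * y = 1 := by
  obtain ⟨g, -, rfl⟩ := h
  calc g * x * g⁻¹ * (g * x * g⁻¹) = g * (x * x) * g⁻¹ := by group
    _ = 1 := by rw [hx]; group

theorem ne_one_of_conjIn {H : Subgroup Γ} {x y : Γ} (h : ConjIn H x y) (hx : x ≠ 1) : y ≠ 1 := by
  obtain ⟨g, -, rfl⟩ := h
  intro h1
  apply hx
  have : x = g⁻¹ * (g * x * g⁻¹) * g := by group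
  rw [this, h1]; group

theorem tnf_zero : T.tnf 0 0 0 0 0 0 = 1 := by rw [tnf_Z, R.zero23]

/-- the case `a = 0`, `b = 0` -/
theorem case00 (c d e z : K) (he : T.σ e = e) (hz : T.σ z = z)
    (hu : T.tnf 0 0 c d e z * T.tnf 0 0 c d e z = 1) (hne : T.tnf 0 0 c d e z ≠ 1) :
    ConjIn T.G1 (T.tnf 0 0 c d e z) (R.X23 1) ∨ ConjIn T.G1 (T.tnf 0 0 c d e z) (T.gA 1) := by
  obtain ⟨-, -, -, h4⟩ := T.cond_of_sq _ _ _ _ _ _ hu
  simp only [zero_mul, mul_zero, map_zero, T.Tr_zero, add_zero, zero_add] at h4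
  by_cases hc : c = 0
  · subst hc
    by_cases hd : d = 0
    · subst hd
      by_cases he0 : e = 0
      · subst he0
        left
        rw [tnf_Z] at hne ⊢
        refine T.conjZ ?_ hz
        rintro rfl
        exact hne R.zero23
      · left
        have h1 : ConjIn T.G1 (T.tnf 0 0 0 0 e z) (T.tnf 0 0 0 0 e 0) := by
          refine T.stepB 0 0 0 0 e z (z / e) (by rw [map_div₀, hz, he]) ?_ ?_ ?_ ?_
          · simp
          · simp
          · simp [T.Nm_zero]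
          · simp only [T.Nm_zero, zero_mul, map_zero, T.Tr_zero, mul_zero, add_zero]
            rw [mul_div_cancel₀ _ he0, CharTwo.add_self_eq_zero]
        rw [tnf_E] at h1
        exact h1.trans (T.conjE he0 he)
    · right
      have h1 : ConjIn T.G1 (T.tnf 0 0 0 d e z) (T.tnf 0 0 0 d 0 z) := by
        refine T.stepA 0 0 0 d e z (T.σ (e / d)) (map_zero _) ?_ ?_ ?_ ?_
        · simp
        · simp
        · simp only [zero_mul, T.Tr_zero, add_zero, T.σ3]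
          rw [mul_div_cancel₀ _ hd, T.Tr_fix e he, CharTwo.add_self_eq_zero]
        · simp [T.Tr_zero]
      have h2 : ConjIn T.G1 (T.tnf 0 0 0 d 0 z) (T.tnf 0 0 0 d 0 0) := by
        refine T.stepC 0 0 0 d 0 z (T.σ (z / d)) ?_ ?_ ?_
        · simp
        · simp [T.Tr_zero]
        · simp only [zero_mul, map_zero, T.Tr_zero, add_zero, mul_zero, T.σ3]
          rw [mul_div_cancel₀ _ hd, T.Tr_fix z hz, CharTwo.add_self_eq_zero]
      rw [tnf_D] at h2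
      have hd' : T.σ d ≠ 0 := by simpa using hd
      exact ((((h1.trans h2).trans (T.conjD d)).trans (T.conjC _)).trans (T.conjA hd'))
  · right
    -- kill `d`
    set x := d / (c * T.σ c) with hx
    have hcc : c * T.σ c ≠ 0 := mul_ne_zero hc (by simpa using hc)
    have hNc : T.Nm c ≠ 0 := by
      unfold Nm
      exact mul_ne_zero hcc (by simpa using hc)
    have hd : d = c * T.σ c * x := by rw [hx, mul_div_cancel₀ _ hcc]
    have hTx : T.Tr x = 0 := by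
      have e1 : c * T.σ d = T.Nm c * T.σ x := by
        rw [hd]; unfold Nm; simp only [map_mul]; ring
      rw [e1, T.Tr_mul_fix _ _ (T.σ_Nm c), T.Tr_σ] at h4
      rcases mul_eq_zero.mp h4 with h | h
      · exact absurd h hNc
      · exact h
    have h1 : ConjIn T.G1 (T.tnf 0 0 c d e z)
        (T.tnf 0 0 c 0 (e + T.Tr (c * (T.σ (c * T.σ x) * T.σ (T.σ (c * T.σ x)))) + T.Tr (d * T.σ (T.σ (c * T.σ x))))
          (z + T.Tr (c * T.σ c * T.σ (T.σ (c * T.σ x))))) := by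
      refine T.stepA 0 0 c d e z (c * T.σ x) (map_zero _) ?_ ?_ ?_ ?_
      · simp
      · simp only [zero_mul, add_zero, map_mul]
        have := T.h90 x hTx
        have e2 : c * (T.σ c * T.σ (T.σ x)) + T.σ c * (c * T.σ x) = c * T.σ c * (T.σ x + T.σ (T.σ x)) := by ring
        rw [e2, this, ← hd, CharTwo.add_self_eq_zero]
      · simp
      · simp
    set e1 := e + T.Tr (c * (T.σ (c * T.σ x) * T.σ (T.σ (c * T.σ x)))) + T.Tr (d * T.σ (T.σ (c * T.σ x))) with he1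
    set z1 := z + T.Tr (c * T.σ c * T.σ (T.σ (c * T.σ x))) with hz1
    have he1f : T.σ e1 = e1 := by rw [he1]; simp only [map_add, he, T.σ_Tr]
    have hz1f : T.σ z1 = z1 := by rw [hz1]; simp only [map_add, hz, T.σ_Tr]
    -- kill `e`
    obtain ⟨l, hl, hlf⟩ := T.exists_sqrt_fix (e1 / T.Nm c) (by rw [map_div₀, he1f, T.σ_Nm])
    have h2 : ConjIn T.G1 (T.tnf 0 0 c 0 e1 z1) (T.tnf 0 0 c 0 0 (z1 + l * T.Nm c)) := by
      refine T.stepA 0 0 c 0 e1 z1 (l * c) (map_zero _) ?_ ?_ ?_ ?_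
      · simp
      · simp only [zero_mul, add_zero, zero_add, map_mul, hlf]
        have : c * (l * T.σ c) + T.σ c * (l * c) = l * c * T.σ c + l * c * T.σ c := by ring
        rw [this, CharTwo.add_self_eq_zero]
      · simp only [zero_mul, add_zero, map_mul, hlf, T.Tr_zero]
        have e3 : c * (l * T.σ c * (l * T.σ (T.σ c))) = l ^ 2 * T.Nm c := by unfold Nm; ring
        rw [e3, T.Tr_mul_fix _ _ (by rw [map_pow, hlf]), T.Tr_fix _ (T.σ_Nm c), hl, div_mul_cancel₀ _ hNc,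
          CharTwo.add_self_eq_zero]
      · simp only [zero_mul, add_zero, map_mul, hlf, zero_pow two_ne_zero]
        have e3 : c * T.σ c * (l * T.σ (T.σ c)) = l * T.Nm c := by unfold Nm; ring
        rw [e3, T.Tr_mul_fix _ _ hlf, T.Tr_fix _ (T.σ_Nm c)]
    set z2 := z1 + l * T.Nm c with hz2
    have hz2f : T.σ z2 = z2 := by rw [hz2]; simp only [map_add, map_mul, hz1f, hlf, T.σ_Nm]
    have h3 : ConjIn T.G1 (T.tnf 0 0 c 0 0 z2) (T.tnf 0 0 c 0 0 0) := by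
      refine T.stepD 0 0 c 0 0 z2 (T.σ (T.σ (z2 / c))) ?_ ?_
      · simp [T.Tr_zero]
      · simp only [zero_mul, T.Tr_zero, add_zero, T.σ3]
        rw [mul_div_cancel₀ _ hc, T.Tr_fix z2 hz2f, CharTwo.add_self_eq_zero]
    rw [tnf_C] at h3
    exact ((((h1.trans h2).trans h3).trans (T.conjC _)).trans (T.conjA hc))

/-- the case `a = 0` -/
theorem case0 (b c d e z : K) (hb : T.σ b = b) (he : T.σ e = e) (hz : T.σ z = z)
    (hu : T.tnf 0 b c d e z * T.tnf 0 b c d e z = 1) (hne : T.tnf 0 b c d e z ≠ 1) :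
    ConjIn T.G1 (T.tnf 0 b c d e z) (R.X23 1) ∨ ConjIn T.G1 (T.tnf 0 b c d e z) (T.gA 1) := by
  by_cases hb0 : b = 0
  · subst hb0
    exact T.case00 c d e z he hz hu hne
  · -- kill `c`
    set w := c / b with hw
    have hbw : b * w = c := by rw [hw, mul_div_cancel₀ _ hb0]
    set d' := d + b * (w * T.σ w) + (c * T.σ w + T.σ c * w) with hd'
    set e' := e + b * T.Nm w + T.Tr (c * (T.σ w * T.σ (T.σ w))) + T.Tr (d * T.σ (T.σ w)) with he'
    set z' := z + b * T.Tr (c * (T.σ w * T.σ (T.σ w))) + b ^ 2 * T.Nm w + T.Tr (c * T.σ c * T.σ (T.σ w)) with hz'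
    have h1 : ConjIn T.G1 (T.tnf 0 b c d e z) (T.tnf 0 b 0 d' e' z') := by
      refine T.stepA 0 b c d e z w hb ?_ rfl rfl rfl
      rw [hbw, CharTwo.add_self_eq_zero]
    have he'f : T.σ e' = e' := by
      rw [he']; simp only [map_add, map_mul, he, hb, T.σ_Tr, T.σ_Nm]
    have hz'f : T.σ z' = z' := by
      rw [hz']; simp only [map_add, map_mul, map_pow, hz, hb, T.σ_Tr, T.σ_Nm]
    have hu' := sq_of_conjIn h1 hu
    obtain ⟨-, -, -, h4⟩ := T.cond_of_sq _ _ _ _ _ _ hu'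
    simp only [zero_mul, mul_zero, map_zero, T.Tr_zero, add_zero, zero_add] at h4
    have he0 : e' = 0 := by
      rcases mul_eq_zero.mp h4 with h | h
      · exact absurd h hb0
      · exact h
    rw [he0] at h1
    by_cases hd0 : d' = 0
    · left
      rw [hd0] at h1
      have h2 : ConjIn T.G1 (T.tnf 0 b 0 0 0 z') (T.tnf 0 b 0 0 0 0) := by
        refine T.stepE 0 b 0 0 0 z' (z' / b) (by rw [map_div₀, hz'f, hb]) ?_
        rw [mul_div_cancel₀ _ hb0, CharTwo.add_self_eq_zero]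
      rw [tnf_B] at h2
      exact (h1.trans h2).trans (T.conjB hb0 hb)
    · have h2 := h1.trans (T.cj_nA b d' z')
      have hu2 := sq_of_conjIn h2 hu
      have hne2 : T.tnf 0 0 (T.σ d') 0 b z' ≠ 1 := by
        intro h
        unfold tnf at h
        obtain ⟨-, -, -, -, h5, -⟩ := T.inj _ _ _ _ _ _ _ _ _ _ _ _ h
        exact hd0 (by simpa using h5)
      rcases T.case00 (T.σ d') 0 b z' hb hz'f hu2 hne2 with h | h
      · exact Or.inl (h2.trans h)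
      · exact Or.inr (h2.trans h)

/-- the case `a ≠ 0` -/
theorem case1 (a b c d e z : K) (ha : a ≠ 0) (hb : T.σ b = b) (he : T.σ e = e) (hz : T.σ z = z)
    (hu : T.tnf a b c d e z * T.tnf a b c d e z = 1) :
    ConjIn T.G1 (T.tnf a b c d e z) (T.gA 1) := by
  obtain ⟨h1, h2, -, -⟩ := T.cond_of_sq _ _ _ _ _ _ hu
  have hb0 : b = 0 := by
    rcases mul_eq_zero.mp h1 with h | h
    · exact absurd h ha
    · exact h
  subst hb0
  have hσa : T.σ a ≠ 0 := by simpa using ha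
  have hNa : T.Nm a ≠ 0 := by
    unfold Nm
    exact mul_ne_zero (mul_ne_zero ha hσa) (by simpa using ha)
  simp only [mul_zero, zero_add] at h2
  -- `c = l * a` with `l` fixed
  set l := c / a with hl
  have hla : a * l = c := by rw [hl, mul_div_cancel₀ _ ha]
  have hlf : T.σ l = l := by
    rw [hl, map_div₀, div_eq_div_iff hσa ha]
    have h22 : (2 : K) = 0 := CharTwo.two_eq_zero
    linear_combination h2 - (T.σ a * c) * h22
  set d1 := d + a * T.σ a * l with hd1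
  set e1 := e + T.Nm a * l with he1
  set z1 := z + T.Nm a * 0 * l + l * T.Tr (a * T.σ a * T.σ (T.σ c)) + e * l with hz1
  have s1 : ConjIn T.G1 (T.tnf a 0 c d e z) (T.tnf a 0 0 d1 e1 z1) := by
    refine T.stepB a 0 c d e z l hlf ?_ rfl rfl rfl
    rw [hla, CharTwo.add_self_eq_zero]
  have he1f : T.σ e1 = e1 := by rw [he1]; simp only [map_add, map_mul, he, hlf, T.σ_Nm]
  have hz1f : T.σ z1 = z1 := by
    rw [hz1]; simp only [map_add, map_mul, map_zero, hz, he, hlf, T.σ_Tr, T.σ_Nm]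
  have hu1 := sq_of_conjIn s1 hu
  obtain ⟨-, -, h3, -⟩ := T.cond_of_sq _ _ _ _ _ _ hu1
  simp only [mul_zero, map_zero, T.Tr_zero, add_zero, zero_add] at h3
  -- kill `d`
  set x := d1 / (a * T.σ a) with hx
  have haa : a * T.σ a ≠ 0 := mul_ne_zero ha hσa
  have hdx : d1 = a * T.σ a * x := by rw [hx, mul_div_cancel₀ _ haa]
  have hTx : T.Tr x = 0 := by
    have e0 : a * T.σ d1 = T.Nm a * T.σ x := by
      rw [hdx]; unfold Nm; simp only [map_mul]; ring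
    rw [e0, T.Tr_mul_fix _ _ (T.σ_Nm a), T.Tr_σ] at h3
    rcases mul_eq_zero.mp h3 with h | h
    · exact absurd h hNa
    · exact h
  set w := a * T.σ x with hw
  set e2 := e1 + T.Tr (a * T.σ a * T.σ (T.σ w)) with he2
  set z2 := z1 + 0 * T.Tr (a * T.σ a * T.σ (T.σ w)) + T.Tr (a * T.σ 0 * T.σ (T.σ w)) +
          T.Tr (a * T.σ (T.σ 0) * T.σ w) + T.Tr (a * (T.σ w * T.σ (T.σ w))) + T.Tr (d1 * T.σ (T.σ w)) with hz2
  have s2 : ConjIn T.G1 (T.tnf a 0 0 d1 e1 z1) (T.tnf a 0 0 0 e2 z2) := by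
    refine T.stepC a 0 0 d1 e1 z1 w ?_ rfl rfl
    rw [hw]
    simp only [map_mul]
    have := T.h90 x hTx
    have e3 : a * (T.σ a * T.σ (T.σ x)) + T.σ a * (a * T.σ x) = a * T.σ a * (T.σ x + T.σ (T.σ x)) := by ring
    rw [e3, this, ← hdx, CharTwo.add_self_eq_zero]
  have he2f : T.σ e2 = e2 := by rw [he2]; simp only [map_add, he1f, T.σ_Tr]
  have hz2f : T.σ z2 = z2 := by
    rw [hz2]; simp only [map_add, map_mul, map_zero, hz1f, T.σ_Tr]
  -- kill `e`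
  have s3 : ConjIn T.G1 (T.tnf a 0 0 0 e2 z2) (T.tnf a 0 0 0 0 z2) := by
    refine T.stepD a 0 0 0 e2 z2 (T.σ (T.σ (e2 / a))) ?_ ?_
    · simp only [T.σ3]
      rw [mul_div_cancel₀ _ ha, T.Tr_fix e2 he2f, CharTwo.add_self_eq_zero]
    · simp [T.Tr_zero]
  -- kill `z`
  obtain ⟨m, hm, hmf⟩ := T.exists_sqrt_fix (z2 / T.Nm a) (by rw [map_div₀, hz2f, T.σ_Nm])
  have s4 : ConjIn T.G1 (T.tnf a 0 0 0 0 z2) (T.tnf a 0 0 0 (m * T.Nm a) 0) := by
    refine T.stepC a 0 0 0 0 z2 (m * a) ?_ ?_ ?_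
    · simp only [map_mul, hmf, zero_add]
      have : a * (m * T.σ a) + T.σ a * (m * a) = m * a * T.σ a + m * a * T.σ a := by ring
      rw [this, CharTwo.add_self_eq_zero]
    · simp only [map_mul, hmf, zero_add]
      have e3 : a * T.σ a * (m * T.σ (T.σ a)) = m * T.Nm a := by unfold Nm; ring
      rw [e3, T.Tr_mul_fix _ _ hmf, T.Tr_fix _ (T.σ_Nm a)]
    · simp only [map_mul, map_zero, hmf, zero_mul, mul_zero, T.Tr_zero, add_zero]
      have e3 : a * (m * T.σ a * (m * T.σ (T.σ a))) = m ^ 2 * T.Nm a := by unfold Nm; ring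
      rw [e3, T.Tr_mul_fix _ _ (by rw [map_pow, hmf]), T.Tr_fix _ (T.σ_Nm a), hm, div_mul_cancel₀ _ hNa,
        CharTwo.add_self_eq_zero]
  set e3 := m * T.Nm a with he3
  have he3f : T.σ e3 = e3 := by rw [he3]; simp only [map_mul, hmf, T.σ_Nm]
  have s5 : ConjIn T.G1 (T.tnf a 0 0 0 e3 0) (T.tnf a 0 0 0 0 0) := by
    refine T.stepD a 0 0 0 e3 0 (T.σ (T.σ (e3 / a))) ?_ ?_
    · simp only [T.σ3]
      rw [mul_div_cancel₀ _ ha, T.Tr_fix e3 he3f, CharTwo.add_self_eq_zero]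
    · simp [T.Tr_zero]
  rw [tnf_A] at s5
  exact (((((s1.trans s2).trans s3).trans s4).trans s5).trans (T.conjA ha))

/-- every involution in twisted normal form is conjugate to `x₂₃(1)` or to `x₁₈(1) x₁₃(1) x₁₂(1)` -/
theorem main (a b c d e z : K) (hb : T.σ b = b) (he : T.σ e = e) (hz : T.σ z = z)
    (hu : T.tnf a b c d e z * T.tnf a b c d e z = 1) (hne : T.tnf a b c d e z ≠ 1) :
    ConjIn T.G1 (T.tnf a b c d e z) (R.X23 1) ∨ ConjIn T.G1 (T.tnf a b c d e z) (T.gA 1) := by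
  by_cases ha : a = 0
  · subst ha
    exact T.case0 b c d e z hb he hz hu hne
  · exact Or.inr (T.case1 a b c d e z ha hb he hz hu)

end char2

end Tw

end Cfsg.Agent.Helper4.D4Inv
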